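import Groth.Agent.Lib.SemiNhd19.Semistable
import Groth.Agent.Lib.TorPts21.Structure
import Groth.Agent.Lib.TorPts21.StructureField
import Groth.Agent.Lib.TorusSlice15.Semiab
import Groth.Agent.Lib.TorusHom19.Basic
import Groth.Agent.Lib.SpreadSub19.Basic

/-!
# Absence of additive subgroups is stable under extensions of algebraically closed fields
-/

set_option autoImplicit false
set_option linter.style.haveILetI false
set_option linter.unusedSectionVars false
set_option backward.isDefEq.respectTransparency false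
universe u

open CategoryTheory CategoryTheory.Limits MonoidalCategory CartesianMonoidalCategory MonObj GrpObj AlgebraicGeometry

noncomputable section

namespace Groth.Agent.SemiNhd19

variable {k : Type u} [Field k] [IsAlgClosed k]

/-- A connected commutative group without additive subgroups is semiabelian. -/
theorem isSA_of_noGa {C : Over (Spec (CommRingCat.of k))} [GrpObj C] [IsCommMonObj C] [Smooth C.hom]
    [QuasiCompact C.hom] [ConnectedSpace C.left]
    (hGa : ∀ j : Red.Ga (Spec (CommRingCat.of k)) ⟶ C, IsMonHom j → IsClosedImmersion j.left → False) :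
    Semiab15.IsSA C := by
  obtain ⟨B, _, b, A, _, q, hb, hbc, hBs, hBn, hBa, hq, hqf, hqs, hbq, hAp, hAs, hAc⟩ := Semiab15.exists_chevalley C
  haveI := hb; haveI := hbc; haveI := hBs; haveI := hBn; haveI := hBa; haveI := hq; haveI := hqf; haveI := hqs
  haveI := hAp; haveI := hAs; haveI := hAc
  haveI : Mono b := Over.mono_of_mono_left b
  haveI := AbelGrp20.isCommMonObj_of_mono b
  refine ⟨B, inferInstance, b, A, inferInstance, q, hb, hbc, ?_, hq, hqs, hqf, hbq, hAp, hAs, hAc⟩
  refine TorPts21.isTorus_of_solvable_reductive ⟨hBa, hBs, hBn, fun U _ i _ hic hUs hUn _ hU => ?_⟩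
    (TorPts21.isSolvableGrp_of_comm B fun X a b => mul_comm a b)
  haveI := hic; haveI := hUs; haveI := hUn
  haveI : IsAffine U.left := isAffine_of_isAffineHom i.left
  haveI : Mono i := Over.mono_of_mono_left i
  haveI := AbelGrp20.isCommMonObj_of_mono i
  have h1 := trivial_of_noSubtorus hU fun j hj hjc => by
    haveI := hj; haveI := hjc
    exact hGa (j ≫ i ≫ b) inferInstance (inferInstanceAs (IsClosedImmersion (j.left ≫ i.left ≫ b.left)))
  haveI := Semiab15.isIso_one_of_id h1
  haveI : IsIso η[U].left := inferInstanceAs (IsIso ((Over.forget _).map η[U]))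
  show IsIso U.hom
  haveI : IsIso (η[U].left ≫ U.hom) := by rw [Over.w]; exact inferInstanceAs (IsIso (𝟙 _))
  exact IsIso.of_isIso_comp_left η[U].left U.hom

omit [IsAlgClosed k] in
/-- Semiabelian groups stay semiabelian after extension of the base field. -/
theorem isSA_bc {K : Type u} [Field K] (φ : Spec (CommRingCat.of K) ⟶ Spec (CommRingCat.of k))
    {C : Over (Spec (CommRingCat.of k))} [GrpObj C] (hC : Semiab15.IsSA C) : Semiab15.IsSA (Red.bc φ C) := by
  obtain ⟨T, _, i, A, _, q, hi, hic, hT, hq, hqs, hqf, hk, hAp, hAs, hAc⟩ := hC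
  haveI := hi; haveI := hic; haveI := hq; haveI := hqs; haveI := hqf; haveI := hAp; haveI := hAs; haveI := hAc
  let P := Over.pullback φ
  exact ⟨P.obj T, inferInstance, P.map i, P.obj A, inferInstance, P.map q, inferInstance,
    BorelFix21.isClosedImmersion_bc φ i, TorusHom19.isTorus_bc hT φ, inferInstance, BorelFix21.surjective_bc φ q,
    MorphismProperty.of_isPullback (P := @Flat) (BorelFix21.isPullback_bc_map φ q) hqf,
    TorusSlice15.isKernel_bc i q hk φ,
    inferInstanceAs (IsProper (pullback.snd A.hom φ)), BorelFix21.smooth_bc φ A, BorelFix21.connectedSpace_bc φ A⟩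

/-- A homomorphism from a connected group lands in every open subgroup. -/
theorem exists_lift_openSubgroup {K : Type u} [Field K] {A B X : Over (Spec (CommRingCat.of K))} [GrpObj A] [GrpObj B]
    [GrpObj X] [LocallyOfFiniteType B.hom] [ConnectedSpace X.left] (v : B ⟶ A) [IsMonHom v] [IsOpenImmersion v.left]
    (j : X ⟶ A) [IsMonHom j] : ∃ j' : X ⟶ B, IsMonHom j' ∧ j' ≫ v = j := by
  have ho : IsOpen (Set.range v.left) := v.left.isOpenEmbedding.isOpen_range
  have hc : IsClosed (Set.range v.left) := AbRigid.isClosed_range_of_isOpen v ho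
  have hp : j.left ⁻¹' Set.range v.left = Set.univ := by
    refine IsClopen.eq_univ ⟨hc.preimage j.left.continuous, ho.preimage j.left.continuous⟩
      ⟨η[X].left (IsLocalRing.closedPoint K), η[B].left (IsLocalRing.closedPoint K), ?_⟩
    rw [← Scheme.Hom.comp_apply, ← Scheme.Hom.comp_apply, ← Over.comp_left, ← Over.comp_left,
      IsMonHom.one_hom, IsMonHom.one_hom]
  have hr : Set.range j.left ⊆ Set.range v.left := by
    rintro _ ⟨a, rfl⟩
    have : a ∈ j.left ⁻¹' Set.range v.left := hp ▸ Set.mem_univ a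
    exact this
  let l := IsOpenImmersion.lift v.left j.left hr
  have hl : l ≫ v.left = j.left := IsOpenImmersion.lift_fac _ _ _
  let j' : X ⟶ B := Over.homMk l (by
    rw [← Over.w v, reassoc_of% hl]
    exact Over.w j)
  have hj' : j' ≫ v = j := Over.OverMorphism.ext hl
  haveI : Mono v := Over.mono_of_mono_left v
  refine ⟨j', TorsorSch25.isMonHom_of_points j' fun W x y => ?_, hj'⟩
  refine (cancel_mono v).1 ?_
  rw [Category.assoc, hj', MonObj.mul_comp _ _ v, Category.assoc, Category.assoc, hj', MonObj.mul_comp]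

/-- The additive group has no torsion of prime order invertible in the field. -/
theorem noTor_Ga {K : Type u} [Field K] {l : ℕ} (hl : (l : K) ≠ 0) :
    Semiab15.NoTor l (Red.Ga (Spec (CommRingCat.of K))) := by
  intro Y h hh
  refine GaPts.gaFn_injective ?_
  show Red.gaFn h = Red.gaFn 1
  have hp : ∀ n : ℕ, Red.gaFn (h ^ n) = (n : Γ(Y.left, ⊤)) * Red.gaFn h := fun n => by
    induction n with
    | zero => rw [pow_zero, GaPts.gaFn_one, Nat.cast_zero, zero_mul]
    | succ n ih => rw [pow_succ, GaPts.gaFn_mul, ih, Nat.cast_succ, add_mul, _root_.one_mul]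
  have h1 := hp l
  rw [hh, GaPts.gaFn_one] at h1
  have hu : IsUnit (l : Γ(Y.left, ⊤)) := by
    have h0 := (isUnit_iff_ne_zero.2 hl).map
      ((Y.hom.appTop.hom).comp (Scheme.ΓSpecIso (CommRingCat.of K)).inv.hom)
    rwa [map_natCast] at h0
  rw [GaPts.gaFn_one]
  exact hu.mul_right_eq_zero.1 h1.symm

/-- No additive subgroups appear over a bigger algebraically closed field. -/
theorem noGa_bc {K : Type u} [Field K] [IsAlgClosed K] (φ : Spec (CommRingCat.of K) ⟶ Spec (CommRingCat.of k))
    {A : Over (Spec (CommRingCat.of k))} [GrpObj A] [IsCommMonObj A] [Smooth A.hom] [QuasiCompact A.hom]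
    (hGa : ∀ j : Red.Ga (Spec (CommRingCat.of k)) ⟶ A, IsMonHom j → IsClosedImmersion j.left → False)
    (j : Red.Ga (Spec (CommRingCat.of K)) ⟶ Red.bc φ A) [IsMonHom j] [IsClosedImmersion j.left] : False := by
  obtain ⟨B, _, v, hv, hvo, hvc, hBs, hBq, hBn⟩ := Chevalley25.exists_neutral A
  haveI := hv; haveI := hvo; haveI := hvc; haveI := hBs; haveI := hBq; haveI := hBn
  haveI : Mono v := Over.mono_of_mono_left v
  haveI := AbelGrp20.isCommMonObj_of_mono v
  have hSA := isSA_bc φ (isSA_of_noGa (C := B) fun i hi hic => by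
    haveI := hi; haveI := hic
    exact hGa (i ≫ v) inferInstance (inferInstanceAs (IsClosedImmersion (i.left ≫ v.left))))
  let vK := (Over.pullback φ).map v
  haveI : IsOpenImmersion vK.left := MorphismProperty.of_isPullback (BorelFix21.isPullback_bc_map φ v) hvo
  haveI : IsClosedImmersion vK.left := BorelFix21.isClosedImmersion_bc φ v
  haveI : LocallyOfFiniteType (Red.bc φ B).hom := inferInstanceAs (LocallyOfFiniteType (pullback.snd B.hom φ))
  haveI : QuasiCompact (Red.bc φ B).hom := inferInstanceAs (QuasiCompact (pullback.snd B.hom φ))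
  obtain ⟨_, _, _⟩ := AttrBorel21.smooth_affine_Ga K
  haveI : ConnectedSpace (Red.Ga (Spec (CommRingCat.of K))).left := by assumption
  obtain ⟨j', hj', hjv⟩ := exists_lift_openSubgroup vK j
  haveI := hj'
  haveI : IsClosedImmersion (j'.left ≫ vK.left) := by rw [← Over.comp_left, hjv]; infer_instance
  haveI : IsClosedImmersion j'.left := IsClosedImmersion.of_comp j'.left vK.left
  obtain ⟨l, hl1, hl⟩ := Nat.exists_infinite_primes (ringChar K + 2)
  have hlK : (l : K) ≠ 0 := fun h => by
    rw [ringChar.spec] at h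
    rcases (Nat.dvd_prime hl).1 h with h' | h'
    · exact one_ne_zero (α := K) (by simpa using (ringChar.spec K 1).2 (by rw [h']))
    · omega
  haveI := Semiab15.isFinite_of_noTor hSA j' hl (noTor_Ga hlK)
  have h1 := Semiab15.trivial_of_finite_connected (Red.Ga (Spec (CommRingCat.of K)))
  have h2 : Red.gaFn (𝟙 (Red.Ga (Spec (CommRingCat.of K)))) = 0 := by rw [h1, GaPts.gaFn_one]
  have h3 := congrArg (fun x => (GaPts.ptOfFn (1 : Γ((𝟙_ (Over (Spec (CommRingCat.of K)))).left, ⊤)) :
    𝟙_ (Over (Spec (CommRingCat.of K))) ⟶ Red.Ga (Spec (CommRingCat.of K))) ≫ x) h1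
  simp only [Category.comp_id, MonObj.comp_one] at h3
  have h4 := congrArg Red.gaFn h3
  rw [GaPts.gaFn_ptOfFn, GaPts.gaFn_one] at h4
  haveI : Nontrivial Γ((𝟙_ (Over (Spec (CommRingCat.of K)))).left, ⊤) :=
    (Scheme.ΓSpecIso (CommRingCat.of K)).commRingCatIsoToRingEquiv.toEquiv.nontrivial
  exact one_ne_zero h4

/-- Vanishing unipotent rank is stable under base change. -/
theorem fibresUnipotentRankZero_bc {S S' : Scheme.{u}} (f : S' ⟶ S) (N : Over S) [GrpObj N] [IsCommMonObj N]
    [Smooth N.hom] [QuasiCompact N.hom] (hN : SGA7.FibresUnipotentRankZero N) :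
    SGA7.FibresUnipotentRankZero (Red.bc f N) := by
  intro s j hj hjc
  haveI := hj; haveI := hjc
  let L := AlgebraicClosure (S.residueField (f s))
  let L' := AlgebraicClosure (S'.residueField s)
  let g := Red.geomPt (f s)
  let g' := Red.geomPt s
  letI : Algebra (S.residueField (f s)) L' :=
    ((algebraMap (S'.residueField s) L').comp (f.residueFieldMap s).hom).toAlgebra
  let σ : L →ₐ[S.residueField (f s)] L' := IsAlgClosed.lift
  let gam : Spec (CommRingCat.of L') ⟶ Spec (CommRingCat.of L) := Spec.map (CommRingCat.ofHom σ.toRingHom)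
  have hgam : gam ≫ g = g' ≫ f := by
    show gam ≫ Spec.map _ ≫ S.fromSpecResidueField (f s) = (Spec.map _ ≫ S'.fromSpecResidueField s) ≫ f
    rw [Category.assoc, ← Scheme.Hom.SpecMap_residueFieldMap_fromSpecResidueField, ← Category.assoc,
      ← Category.assoc, ← Spec.map_comp, ← Spec.map_comp]
    congr 2
    ext a
    exact σ.commutes a
  let A := Red.geomFibre (f s) N
  haveI : Smooth A.hom := inferInstanceAs (Smooth (pullback.snd N.hom g))
  haveI : QuasiCompact A.hom := inferInstanceAs (QuasiCompact (pullback.snd N.hom g))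
  let b₁ := SpreadSub19.bcComp g gam (c := g' ≫ f) hgam N
  let b₂ := SpreadSub19.bcComp f g' (c := g' ≫ f) rfl N
  haveI : IsMonHom b₁.hom := SpreadSub19.bcComp_isMonHom _ _ _ N
  haveI : IsMonHom b₂.hom := SpreadSub19.bcComp_isMonHom _ _ _ N
  haveI : IsMonHom b₁.inv := inferInstance
  haveI : IsIso b₁.inv.left := inferInstanceAs (IsIso ((Over.forget _).map b₁.inv))
  haveI : IsIso b₂.hom.left := inferInstanceAs (IsIso ((Over.forget _).map b₂.hom))
  let j₀ : Red.Ga (Spec (CommRingCat.of L')) ⟶ Red.bc gam A := j ≫ b₂.hom ≫ b₁.inv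
  haveI : IsMonHom j₀ := inferInstanceAs (IsMonHom (j ≫ b₂.hom ≫ b₁.inv))
  haveI : IsClosedImmersion j₀.left :=
    inferInstanceAs (IsClosedImmersion (j.left ≫ b₂.hom.left ≫ b₁.inv.left))
  exact noGa_bc gam (A := A) (hN (f s)) j₀

end Groth.Agent.SemiNhd19
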