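import Groth.Agent.Lib.ModelTors19.NoGa
import Groth.Agent.Lib.RedLR15.Converse
import Groth.Agent.Lib.GrassAct21.Basic
import Groth.Agent.S3271

/-!
# Commutative groups without additive subgroups and without torsion of some prime order are finite
-/

set_option autoImplicit false
set_option linter.style.haveILetI false
set_option linter.unusedSectionVars false
set_option backward.isDefEq.respectTransparency false
set_option backward.isDefEq.respectTransparency.types false
universe u

open CategoryTheory CategoryTheory.Limits MonoidalCategory CartesianMonoidalCategory MonObj GrpObj AlgebraicGeometry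
open TensorProduct HopfRep

noncomputable section

namespace Groth.Agent.SemiNhd19

variable {k : Type u} [Field k] [IsAlgClosed k]

/-- A connected commutative group without subtori has a unipotent Hopf algebra. -/
theorem isUnipotent_of_noSubtorus {A : Type u} [CommRing A] [HopfAlgebra k A] [Algebra.FiniteType k A] [IsReduced A]
    [Smooth (CoactBr.sp k A).hom] [ConnectedSpace (CoactBr.sp k A).left]
    (hU : Red.HasNoSubtorus k (CoactBr.sp k A)) : HopfRep.IsUnipotent k A := by
  intro V _ _ _ hV hVn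
  haveI := hV; haveI := hVn
  haveI : IsAffine (CoactBr.sp k A).left := inferInstanceAs (IsAffine (Spec _))
  obtain ⟨w, hw0, hw⟩ := RedLR15.exists_fixed_vector (𝟙 (CoactBr.sp k A)) hU V
  refine fun h => hw0 ?_
  rw [← Submodule.mem_bot k, ← h]
  refine RedLR15.mem_fixedPts_of_stab_eq_bot ((Submodule.eq_bot_iff _).2 fun c hc => ?_)
  refine RedLR15.eq_zero_of_forall_pts (k := k) (A := A) fun g => ?_
  have hg : Comod.act k A V g w = w := by
    have h1 := hw (RedLR15.gp g)
    have e : RedLR15.ptHomOf (𝟙 (CoactBr.sp k A)) (RedLR15.gp g) = g :=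
      RedLR15.gp_injective ((RedLR15.gp_ptHomOf _ _).trans (Category.comp_id _))
    conv_lhs => rw [← e]
    exact h1
  exact (RedLR15.stab_le_ker_iff g w).2 hg hc

omit [IsAlgClosed k] in
/-- A tuple of primitive generators gives an additive subgroup. -/
theorem exists_Ga_of_prim {A : Type u} [CommRing A] [HopfAlgebra k A] {n : ℕ} (x : Fin n → A)
    (hx : AlgebraicIndependent k x) (hgen : Algebra.adjoin k (Set.range x) = ⊤)
    (hp : ∀ i, CoalgebraStruct.comul (R := k) (x i) = x i ⊗ₜ[k] (1 : A) + (1 : A) ⊗ₜ[k] x i) (i₀ : Fin n) :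
    ∃ a : Red.Ga (Spec (CommRingCat.of k)) ⟶ CoactBr.sp k A, IsMonHom a ∧ IsClosedImmersion a.left := by
  classical
  let G₁ := Red.Ga (Spec (CommRingCat.of k))
  let v := Red.gaFn (𝟙 G₁)
  let e := hx.aevalEquiv.trans ((Subalgebra.equivOfEq _ _ hgen).trans Subalgebra.topEquiv)
  have he : ∀ i, e (MvPolynomial.X i) = x i := fun i => by simp [e]
  let sc : k →+* Γ(G₁.left, ⊤) := G₁.hom.appTop.hom.comp (Scheme.ΓSpecIso (CommRingCat.of k)).inv.hom
  letI : Algebra k Γ(G₁.left, ⊤) := sc.toAlgebra
  let φ : A →ₐ[k] Γ(G₁.left, ⊤) :=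
    (MvPolynomial.aeval fun i => if i = i₀ then v else 0).comp (e.symm : A →ₐ[k] MvPolynomial (Fin n) k)
  have hφ : ∀ i, φ (x i) = if i = i₀ then v else 0 := fun i => by
    show MvPolynomial.aeval _ (e.symm (x i)) = _
    rw [← he i, e.symm_apply_apply, MvPolynomial.aeval_X]
  let a : G₁ ⟶ CoactBr.sp k A := Over.homMk (G₁.left.toSpecΓ ≫ Spec.map (CommRingCat.ofHom φ.toRingHom)) (by
    show (G₁.left.toSpecΓ ≫ Spec.map (CommRingCat.ofHom φ.toRingHom)) ≫
      Spec.map (CommRingCat.ofHom (algebraMap k A)) = G₁.hom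
    rw [Category.assoc, ← Spec.map_comp, ← CommRingCat.ofHom_comp,
      show φ.toRingHom.comp (algebraMap k A) = sc from RingHom.ext fun c => φ.commutes c]
    exact AddModel19.toSpecΓ_scal G₁)
  have ha : ∀ {C : Type u} [CommRing C] [Algebra k C] (w : VecGrp.pt k C ⟶ G₁), ∃ χ : A →ₐ[k] C,
      w ≫ a = CoactBr.pt χ ∧ ∀ i, χ (x i) =
        if i = i₀ then (Scheme.ΓSpecIso (CommRingCat.of C)).hom (Red.gaFn w) else 0 := by
    intro C _ _ w
    let f : Γ(G₁.left, ⊤) →+* C := (Scheme.ΓSpecIso (CommRingCat.of C)).hom.hom.comp w.left.appTop.hom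
    have hf : ∀ c, f (sc c) = algebraMap k C c := fun c => by
      show (Scheme.ΓSpecIso (CommRingCat.of C)).hom (w.left.appTop (G₁.hom.appTop
        ((Scheme.ΓSpecIso (CommRingCat.of k)).inv c))) = _
      rw [← CommRingCat.comp_apply G₁.hom.appTop, ← Scheme.Hom.comp_appTop, Over.w]
      show ((Scheme.ΓSpecIso (CommRingCat.of k)).inv ≫ (Spec.map (CommRingCat.ofHom (algebraMap k C))).appTop ≫
        (Scheme.ΓSpecIso (CommRingCat.of C)).hom) c = _
      rw [Scheme.ΓSpecIso_naturality, Iso.inv_hom_id_assoc]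
      rfl
    let f' : Γ(G₁.left, ⊤) →ₐ[k] C := { f with commutes' := hf }
    refine ⟨f'.comp φ, ?_, fun i => ?_⟩
    · ext1
      show w.left ≫ G₁.left.toSpecΓ ≫ Spec.map (CommRingCat.ofHom φ.toRingHom) =
        Spec.map (CommRingCat.ofHom (f.comp φ.toRingHom))
      rw [CommRingCat.ofHom_comp, Spec.map_comp, ← Category.assoc]
      congr 1
      rw [Scheme.toSpecΓ_naturality]
      show (Spec (CommRingCat.of C)).toSpecΓ ≫ _ = _
      rw [← SpecMap_ΓSpecIso_hom]
      exact (Spec.map_comp _ _).symm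
    · show f (φ (x i)) = _
      rw [hφ]
      split_ifs with h
      · show (Scheme.ΓSpecIso (CommRingCat.of C)).hom (w.left.appTop v) = _
        rw [← GaPts.gaFn_comp, Category.comp_id]
      · exact map_zero f
  haveI hm : IsMonHom a := by
    have hmul : ∀ {C : Type u} [CommRing C] [Algebra k C] (w w' : VecGrp.pt k C ⟶ G₁),
        (w * w') ≫ a = (w ≫ a) * (w' ≫ a) := by
      intro C _ _ w w'
      obtain ⟨χ, hχ, hχi⟩ := ha w
      obtain ⟨χ', hχ', hχi'⟩ := ha w'
      obtain ⟨ψ, hψ, hψi⟩ := ha (w * w')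
      rw [hψ, hχ, hχ']
      refine Eq.trans (congrArg CoactBr.pt ?_) (CoactBr.pt_mul_pt χ χ').symm
      refine AlgHom.ext_of_adjoin_eq_top hgen ?_
      rintro _ ⟨i, rfl⟩
      rw [AlgHom.comp_apply, Bialgebra.comulAlgHom_apply, hp, map_add, Algebra.TensorProduct.lift_tmul,
        Algebra.TensorProduct.lift_tmul, map_one, map_one, _root_.mul_one, _root_.one_mul, hψi, hχi, hχi',
        GaPts.gaFn_mul, map_add]
      split_ifs <;> simp
    refine TorsorSch25.isMonHom_of_points a fun W x' y' => ?_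
    refine GrassAct21.hom_ext_pts fun C _ _ z => ?_
    rw [← Category.assoc, MonObj.comp_mul, hmul, MonObj.comp_mul, Category.assoc, Category.assoc]
  refine ⟨a, hm, ?_⟩
  let r : CoactBr.sp k A ⟶ G₁ := GaPts.ptOfFn ((Scheme.ΓSpecIso (CommRingCat.of A)).inv (x i₀))
  have har : a ≫ r = 𝟙 G₁ := by
    refine GaPts.gaFn_injective ?_
    show Red.gaFn (a ≫ r) = v
    rw [GaPts.gaFn_comp, GaPts.gaFn_ptOfFn]
    show (G₁.left.toSpecΓ ≫ Spec.map (CommRingCat.ofHom φ.toRingHom)).appTop _ = _
    rw [Scheme.Hom.comp_appTop, Scheme.toSpecΓ_appTop, CommRingCat.comp_apply]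
    refine (AddModel19.ΓSpecIso_map_apply _ _).trans ?_
    simp [hφ]
  haveI : IsClosedImmersion (a.left ≫ r.left) := by rw [← Over.comp_left, har]; infer_instance
  obtain ⟨_, _, _⟩ := AttrBorel21.smooth_affine_Ga k
  haveI : IsAffine G₁.left := by assumption
  haveI : IsAffine (CoactBr.sp k A).left := inferInstanceAs (IsAffine (Spec _))
  haveI : IsSeparated r.left := by infer_instance
  exact IsClosedImmersion.of_comp a.left r.left

/-- A connected affine group without subtori and without additive subgroups is trivial. -/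
theorem trivial_of_noSubtorus {U : Over (Spec (CommRingCat.of k))} [GrpObj U] [IsCommMonObj U] [Smooth U.hom]
    [ConnectedSpace U.left] [IsAffine U.left] (hU : Red.HasNoSubtorus k U)
    (hGa : ∀ j : Red.Ga (Spec (CommRingCat.of k)) ⟶ U, IsMonHom j → IsClosedImmersion j.left → False) :
    𝟙 U = 1 := by
  by_contra hne
  obtain ⟨p, hp⟩ := CharP.exists k
  rcases CharP.char_is_prime_or_zero k p with hpp | rfl
  · haveI := Fact.mk hpp
    obtain ⟨j, hj, hjc⟩ := ModelTors19.exists_Ga_closed p hU hne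
    exact hGa j hj hjc
  haveI : CharZero k := CharP.charP_to_charZero k
  haveI : IsAffineHom U.hom := isAffineHom_of_isAffine _
  obtain ⟨A, _, _, ⟨e⟩⟩ := HopfPts19.exists_model U
  let f : CoactBr.sp k A ⟶ U := e.hom.hom.hom
  let g : U ⟶ CoactBr.sp k A := e.inv.hom.hom
  have hgf : g ≫ f = 𝟙 U := congrArg (fun k => k.hom.hom) e.inv_hom_id
  have hfg : f ≫ g = 𝟙 _ := congrArg (fun k => k.hom.hom) e.hom_inv_id
  haveI : IsIso f := ⟨g, hfg, hgf⟩
  haveI : IsMonHom f := e.hom.hom.isMonHom_hom
  haveI : Coalgebra.IsCocomm k A := Deligne19.isCocomm_of_comm (R := CommRingCat.of k) (CommHopfAlgCat.of k A)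
    fun T (x y : T ⟶ CoactBr.sp k A) => (cancel_mono f).1
      ((MonObj.mul_comp x y f).trans ((_root_.mul_comm _ _).trans (MonObj.mul_comp y x f).symm))
  haveI : IsIso f.left := inferInstanceAs (IsIso ((Over.forget _).map f))
  haveI hsm : Smooth (CoactBr.sp k A).hom := by rw [← Over.w f]; infer_instance
  haveI : Algebra.Smooth k A := RingHom.smooth_algebraMap.1
    ((HasRingHomProperty.Spec_iff (P := @Smooth)).1
      (show Smooth (Spec.map (CommRingCat.ofHom (algebraMap k A))) from hsm))
  haveI : Algebra.FiniteType k A := Algebra.FiniteType.of_finitePresentation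
  let hh : (CoactBr.sp k A).left ≃ₜ U.left := Scheme.homeoOfIso (asIso f.left)
  haveI : ConnectedSpace (CoactBr.sp k A).left := hh.symm.surjective.connectedSpace hh.symm.continuous
  haveI : IsReduced (CoactBr.sp k A).left := OrbitTop19.isReduced_of_smooth (CoactBr.sp k A).hom
  haveI : _root_.IsReduced A :=
    (affine_isReduced_iff (CommRingCat.of A)).1 (inferInstanceAs (IsReduced (CoactBr.sp k A).left))
  have hns : Red.HasNoSubtorus k (CoactBr.sp k A) := fun T _ j _ _ hT => hU T (j ≫ f) hT
  obtain ⟨n, x, hx, hgen, hp'⟩ := Groth.Agent.S3271.result k A (isUnipotent_of_noSubtorus hns)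
  rcases Nat.eq_zero_or_pos n with h0 | hn
  · subst h0
    refine hne ?_
    rw [← cancel_epi f, Category.comp_id, MonObj.comp_one, ← Category.id_comp f]
    suffices h : 𝟙 (CoactBr.sp k A) = 1 by rw [h, MonObj.one_comp]
    rw [CoactBr.one_eq_pt, ← CoactBr.pt_id]
    exact congrArg CoactBr.pt (AlgHom.ext_of_adjoin_eq_top hgen (by rintro _ ⟨i, -⟩; exact i.elim0))
  obtain ⟨a, ha, hac⟩ := exists_Ga_of_prim x hx hgen hp' ⟨0, hn⟩
  exact hGa (a ≫ f) inferInstance (inferInstanceAs (IsClosedImmersion (a.left ≫ f.left)))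

/-- A commutative group without additive subgroups and without torsion of some prime order is finite. -/
theorem isFinite_of_noGa_noTor {K : Over (Spec (CommRingCat.of k))} [GrpObj K] [IsCommMonObj K]
    [LocallyOfFiniteType K.hom] [QuasiCompact K.hom]
    (hGa : ∀ j : Red.Ga (Spec (CommRingCat.of k)) ⟶ K, IsMonHom j → IsClosedImmersion j.left → False)
    {l : ℕ} (hl : l.Prime) (hN : Semiab15.NoTor l K) : IsFinite K.hom := by
  refine Semiab15.isFinite_of_subgroups K fun C _ c _ _ _ _ => ?_
  haveI : IsSeparated K.hom := AbRigid.isSeparated_of_grpObj K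
  haveI : Mono c := Over.mono_of_mono_left c
  haveI := AbelGrp20.isCommMonObj_of_mono c
  haveI : QuasiCompact C.hom := by rw [← Over.w c]; infer_instance
  have hNC := Semiab15.noTor_sub hN c
  obtain ⟨B, _, b, A, _, q, hb, hbc, hBs, hBn, hBa, hq, hqf, hqs, hbq, hAp, hAs, hAc⟩ := Semiab15.exists_chevalley C
  haveI := hb; haveI := hbc; haveI := hBs; haveI := hBn; haveI := hBa; haveI := hq; haveI := hqf; haveI := hqs
  haveI := hAp; haveI := hAs; haveI := hAc
  haveI : Mono b := Over.mono_of_mono_left b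
  haveI := AbelGrp20.isCommMonObj_of_mono b
  have hNB := Semiab15.noTor_sub hNC b
  have hB : 𝟙 B = 1 := by
    refine trivial_of_noSubtorus (fun T _ t _ _ hT => ?_) fun j hj hjc => ?_
    · haveI : Mono t := Over.mono_of_mono_left t
      have h1 := Semiab15.trivial_torus hl hT (Semiab15.noTor_sub hNB t)
      haveI := Semiab15.isIso_one_of_id h1
      haveI : IsIso η[T].left := inferInstanceAs (IsIso ((Over.forget _).map η[T]))
      show IsIso T.hom
      haveI : IsIso (η[T].left ≫ T.hom) := by rw [Over.w]; exact inferInstanceAs (IsIso (𝟙 _))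
      exact IsIso.of_isIso_comp_left η[T].left T.hom
    · haveI := hj; haveI := hjc
      exact hGa (j ≫ b ≫ c) inferInstance (inferInstanceAs (IsClosedImmersion (j.left ≫ b.left ≫ c.left)))
  -- so `C` is an abelian variety
  have hqc : IsClosedImmersion q.left := by
    haveI : QuasiCompact q.left := Semiab15.qc_left q
    haveI : Mono q := ⟨fun {Y} x y hxy => by
      letI : CommGroup (Y ⟶ C) := Hom.commGroup
      refine eq_of_mul_inv_eq_one ?_
      have hh : (x * y⁻¹) ≫ q = 1 := by rw [MonObj.mul_comp, GrpObj.inv_comp, hxy, mul_inv_cancel]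
      obtain ⟨u, hu⟩ := CharTorus15.exists_lift hbq _ hh
      rw [← hu, ← Category.comp_id u, hB, MonObj.comp_one, MonObj.one_comp]⟩
    exact Semiab15.isClosedImmersion_of_trivial_kernel q
  haveI := hqc
  haveI : IsProper C.hom := by rw [← Over.w q]; infer_instance
  exact Semiab15.trivial_av hl hNC

end Groth.Agent.SemiNhd19
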