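import Groth.Agent.Lib.TorsLift22.Etale
import Groth.Agent.Lib.Isogeny14.Kernel
import Groth.Agent.Lib.MulEtale20.Basic
import Groth.Agent.Lib.RigidRel.MulEtale
import Groth.Agent.Lib.MTExt29.Comm
import Groth.Agent.Lib.PtsDetect19.Basic
import Groth.Prelude.Def_SGA7IX

/-!
# Torsion of the kernel of a homomorphism of flat group schemes along a generization
-/

set_option autoImplicit false
set_option linter.style.haveILetI false
set_option linter.unusedSectionVars false
set_option backward.isDefEq.respectTransparency false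
universe u

open CategoryTheory CategoryTheory.Limits MonoidalCategory CartesianMonoidalCategory MonObj GrpObj AlgebraicGeometry

noncomputable section

namespace Groth.Agent.SemiNhd19

/-- Powers by invertible integers on commutative groups over a field are étale. -/
theorem etale_pow_flat {S : Scheme.{u}} (X : Over S) [GrpObj X] [IsCommMonObj X] [Flat X.hom] [IsSeparated X.hom]
    [LocallyOfFinitePresentation X.hom] [QuasiCompact X.hom] {n : ℕ} (hn : IsUnit (n : Γ(S, ⊤))) :
    Etale (𝟙 X ^ n).left := by
  haveI := TorsLift22.isMonHom_zpow X n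
  haveI hu : FormallyUnramified (𝟙 X ^ n).left := by
    have := MulEtale.formallyUnramified_zpow X (n : ℤ) (by simpa using hn)
    rwa [zpow_natCast] at this
  set f := (𝟙 X ^ n).left with hf
  have hfw : f ≫ X.hom = X.hom := Over.w _
  haveI : Flat (f ≫ X.hom) := by rw [hfw]; infer_instance
  haveI : LocallyOfFinitePresentation (f ≫ X.hom) := by rw [hfw]; infer_instance
  haveI : LocallyOfFinitePresentation f := SchBasic.locallyOfFinitePresentation_of_comp f X.hom
  haveI : Flat f := FlatH4.flat_of_fibres f X.hom fun s => by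
    refine (AbRigid.fibre_iff (𝟙 X ^ n) s @Flat).2 ?_
    let Y := (Over.pullback (S.fromSpecResidueField s)).obj X
    haveI : LocallyOfFiniteType Y.hom :=
      inferInstanceAs (LocallyOfFiniteType (pullback.snd X.hom (S.fromSpecResidueField s)))
    have e : AbRigid.fibreMap (𝟙 X ^ n) s = 𝟙 Y ^ n :=
      (map_pow (Over.pullback (S.fromSpecResidueField s)).homMonoidHom (𝟙 X) n).trans
        (congrArg (· ^ n) ((Over.pullback (S.fromSpecResidueField s)).map_id X))
    have hn' : (n : S.residueField s) ≠ 0 := by
      let φ : Γ(S, ⊤) →+* S.residueField s :=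
        (Scheme.ΓSpecIso (S.residueField s)).hom.hom.comp (S.fromSpecResidueField s).appTop.hom
      have h := hn.map φ
      rw [map_natCast] at h
      exact h.ne_zero
    haveI := TorsLift22.isMonHom_zpow Y n
    rw [e]
    exact AbRigid.flat_of_flat_stalkMap Y Y (𝟙 Y ^ n) _ (MulEtale20.flat_unramified_pow Y n hn').1
  exact Etale.iff_flat_and_formallyUnramified.2 ⟨inferInstance, inferInstance, inferInstance⟩

variable {S : Scheme.{u}}

/-- A torsion point over a local scheme of invertible order reducing to the unit is the unit. -/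
theorem eq_one_of_pow_eq_one (X : Over S) [GrpObj X] [LocallyOfFiniteType X.hom] {W : CommRingCat.{u}}
    [IsLocalRing W] (t : Spec W ⟶ S) (d : Over.mk t ⟶ X) (n : ℕ) (hn : IsUnit (n : W)) (hd : d ^ n = 1)
    (hc : Spec.map (CommRingCat.ofHom (IsLocalRing.residue W)) ≫ d.left =
      Spec.map (CommRingCat.ofHom (IsLocalRing.residue W)) ≫ (1 : Over.mk t ⟶ X).left) : d = 1 := by
  let F := Over.pullback t
  let B := F.obj X
  haveI : LocallyOfFiniteType B.hom := inferInstanceAs (LocallyOfFiniteType (pullback.snd X.hom t))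
  let f₀ := Spec.map (CommRingCat.ofHom (algebraMap W W))
  have hf₀ : f₀ = 𝟙 (Spec W) := by
    simp only [f₀, Algebra.algebraMap_self]
    exact Spec.map_id _
  let σ : SGA7Torsion.specOver W W ⟶ F.obj (Over.mk t) := Over.homMk (pullback.lift f₀ f₀ rfl) (by
    exact pullback.lift_snd _ _ _)
  have hfst : ∀ x : Over.mk t ⟶ X, σ.left ≫ (F.map x).left ≫ pullback.fst X.hom t = x.left := fun x => by
    simp [σ, F, hf₀]
    exact Category.id_comp _
  have hone : σ ≫ F.map (1 : Over.mk t ⟶ X) = 1 := by rw [F.map_one, comp_one]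
  have h1 := SGA7Torsion.eq_one_of_pow_eq_one B (σ ≫ F.map d) n hn (by
    rw [← comp_pow, show F.map d ^ n = F.map (d ^ n) from (map_pow F.homMonoidHom d _).symm, hd, hone]) (by
    refine Eq.trans ?_ (show SGA7Torsion.specHom (Ideal.Quotient.mkₐ W (IsLocalRing.maximalIdeal W)) ≫
      σ ≫ F.map (1 : Over.mk t ⟶ X) = 1 by rw [hone, comp_one])
    ext1
    apply pullback.hom_ext
    swap
    · exact (Over.w _).trans (Over.w _).symm
    simp only [Over.comp_left, Category.assoc]
    exact (congrArg (_ ≫ ·) (hfst d)).trans (hc.trans (congrArg (_ ≫ ·) (hfst 1)).symm))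
  ext1
  rw [← hfst d, ← hfst 1, ← Over.comp_left_assoc, ← Over.comp_left_assoc, h1, hone]

/-- The kernel of `u` has no points of order dividing `l` over the point `s`. -/
def NoTorAt {G H : Over S} [GrpObj G] [GrpObj H] (u : G ⟶ H) (l : ℕ) (s : S) : Prop :=
  ∀ (L : Type u) [Field L] (g : Spec (CommRingCat.of L) ⟶ S) (x : Over.mk g ⟶ G),
    g (IsLocalRing.closedPoint L) = s → x ^ l = 1 → x ≫ u = 1 → x = 1

/-- Kernels have no torsion at a specialisation if they have none at the generization. -/
theorem noTorAt_of_specializes {G H : Over S} [GrpObj G] [IsCommMonObj G] [Flat G.hom] [IsSeparated G.hom]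
    [LocallyOfFinitePresentation G.hom] [QuasiCompact G.hom] [GrpObj H] [LocallyOfFiniteType H.hom]
    (u : G ⟶ H) [IsMonHom u] {s t : S} (hts : t ⤳ s) {l : ℕ} (hl : IsUnit (l : Γ(S, ⊤)))
    (hT : NoTorAt u l t) : NoTorAt u l s := by
  intro L _ g x hg hx hxu
  haveI : Etale (𝟙 G ^ l).left := etale_pow_flat G hl
  let q := 𝟙 G ^ l
  let P := pullback q.left η[G].left
  let π : P ⟶ S := pullback.snd q.left η[G].left
  let i₀ : P ⟶ G.left := pullback.fst q.left η[G].left
  have hi₀ : i₀ ≫ G.hom = π := by
    rw [← Over.w q, show i₀ ≫ q.left ≫ G.hom = (i₀ ≫ q.left) ≫ G.hom from (Category.assoc _ _ _).symm,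
      pullback.condition, Category.assoc, Over.w η[G]]
    exact Category.comp_id _
  let i : Over.mk π ⟶ G := Over.homMk i₀ hi₀
  have hi : i ^ l = 1 := by
    rw [← Category.comp_id i, ← MonObj.comp_pow]
    ext1
    show i₀ ≫ q.left = _
    rw [show i₀ ≫ q.left = π ≫ η[G].left from pullback.condition, Hom.one_def, Over.comp_left]
    rfl
  -- the point of `P`
  have hxq : x.left ≫ q.left = g ≫ η[G].left := by
    rw [← Over.comp_left, show x ≫ q = 1 by rw [MonObj.comp_pow, Category.comp_id, hx], Hom.one_def]
    rfl
  let p : Spec (CommRingCat.of L) ⟶ P := pullback.lift x.left g hxq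
  let xP : Over.mk g ⟶ Over.mk π := Over.homMk p (pullback.lift_snd _ _ _)
  have hxP : xP ≫ i = x := by ext1; exact pullback.lift_fst _ _ _
  let a : P := p (IsLocalRing.closedPoint L)
  have hπa : π a = s := by
    rw [← Scheme.Hom.comp_apply, pullback.lift_snd]
    exact hg
  -- lift the generization
  obtain ⟨b, hba, hbt⟩ := Flat.generalizingMap π (a := a) (show t ⤳ π a by rw [hπa]; exact hts)
  -- the composite to `H` near `a` is trivial
  let W := P.presheaf.stalk a
  let w : Spec W ⟶ P := P.fromSpecStalk a
  let wP : Over.mk (w ≫ π) ⟶ Over.mk π := Over.homMk w rfl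
  have hlW : IsUnit (l : W) := by
    let φ : Γ(S, ⊤) →+* W := (Scheme.ΓSpecIso W).hom.hom.comp (w ≫ π).appTop.hom
    have h := hl.map φ
    rwa [map_natCast] at h
  have hz : (wP ≫ i) ≫ u = 1 := by
    refine eq_one_of_pow_eq_one H (w ≫ π) _ l hlW ?_ ?_
    · rw [← Isogeny14.hom_pow_comp u, ← MonObj.comp_pow, hi, MonObj.comp_one, MonObj.one_comp]
    · let κa := P.residueField a
      have hres : Spec.map (CommRingCat.ofHom (IsLocalRing.residue W)) ≫ w = P.fromSpecResidueField a := rfl
      let c : Spec (CommRingCat.of L) ⟶ Spec κa := Spec.map (P.descResidueField (Scheme.stalkClosedPointTo p))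
      have hcp : c ≫ P.fromSpecResidueField a = p :=
        Scheme.descResidueField_stalkClosedPointTo_fromSpecResidueField _ P p
      haveI : Surjective c := ⟨fun y => ⟨IsLocalRing.closedPoint L, Subsingleton.elim (α := PrimeSpectrum κa) _ _⟩⟩
      haveI : Flat c := by
        rw [HasRingHomProperty.Spec_iff (P := @Flat)]
        exact RingHom.Flat.of_isField (Field.toIsField _) _
      haveI : QuasiCompact c := inferInstance
      let r : Over.mk (P.fromSpecResidueField a ≫ π) ⟶ Over.mk (w ≫ π) :=
        Over.homMk (Spec.map (CommRingCat.ofHom (IsLocalRing.residue W))) (by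
          show _ ≫ w ≫ π = _
          rw [← Category.assoc, hres]
          rfl)
      let cO : Over.mk g ⟶ Over.mk (P.fromSpecResidueField a ≫ π) := Over.homMk c (by
        show c ≫ P.fromSpecResidueField a ≫ π = g
        rw [← Category.assoc, hcp, pullback.lift_snd])
      haveI : Surjective cO.left := ‹Surjective c›
      haveI : Flat cO.left := ‹Flat c›
      haveI : QuasiCompact cO.left := ‹QuasiCompact c›
      haveI := MTExt29.epi_of_cover cO
      have hcr : cO ≫ r ≫ wP = xP := by
        ext1
        show c ≫ Spec.map (CommRingCat.ofHom (IsLocalRing.residue W)) ≫ w = p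
        rw [hres, hcp]
      refine congrArg CommaMorphism.left (show r ≫ (wP ≫ i) ≫ u = r ≫ 1 from ?_)
      rw [← cancel_epi cO, MonObj.comp_one, MonObj.comp_one, ← Category.assoc, ← Category.assoc, ← Category.assoc,
        Category.assoc cO r wP, hcr, hxP, hxu]
  -- the generization is the unit
  let κb := P.residueField b
  let jb : Over.mk (P.fromSpecResidueField b ≫ π) ⟶ Over.mk (w ≫ π) :=
    Over.homMk (Spec.map (CommRingCat.ofHom (IsLocalRing.residue (P.presheaf.stalk b))) ≫
      Spec.map (P.presheaf.stalkSpecializes hba)) (by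
        show _ ≫ w ≫ π = _
        rw [Category.assoc, Scheme.SpecMap_stalkSpecializes_fromSpecStalk_assoc]
        rfl)
  have hxb : (jb ≫ wP) ≫ i = 1 := by
    refine hT κb (P.fromSpecResidueField b ≫ π) _ ?_ ?_ ?_
    · rw [Scheme.Hom.comp_apply]
      exact (congrArg π (Scheme.fromSpecResidueField_apply b _)).trans hbt
    · rw [← MonObj.comp_pow, hi, MonObj.comp_one]
    · rw [Category.assoc jb wP i, Category.assoc, hz, MonObj.comp_one]
  let e : S ⟶ P := pullback.lift η[G].left (𝟙 S) (by
    rw [← Over.comp_left, show η[G] ≫ q = η[G] by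
      rw [MonObj.comp_pow, Category.comp_id, MonObj.one_eq_one, one_pow]]
    exact (Category.id_comp _).symm)
  haveI : IsClosedImmersion (e ≫ π) := by rw [pullback.lift_snd]; infer_instance
  haveI : IsSeparated q.left := by
    haveI : IsSeparated (q.left ≫ G.hom) := by rw [Over.w]; infer_instance
    exact IsSeparated.of_comp q.left G.hom
  haveI : IsSeparated π := inferInstanceAs (IsSeparated (pullback.snd q.left η[G].left))
  haveI : IsClosedImmersion e := IsClosedImmersion.of_comp e π
  have hbe : b = e t := by
    have h1 : jb.left ≫ wP.left = P.fromSpecResidueField b := by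
      show (Spec.map _ ≫ Spec.map _) ≫ w = _
      rw [Category.assoc, Scheme.SpecMap_stalkSpecializes_fromSpecStalk]
      rfl
    have h2 : P.fromSpecResidueField b = (P.fromSpecResidueField b ≫ π) ≫ e := by
      apply pullback.hom_ext
      · have h3 := congrArg CommaMorphism.left hxb
        simp only [Over.comp_left, Hom.one_def] at h3
        rw [h1] at h3
        rw [Category.assoc, pullback.lift_fst]
        exact h3
      · rw [Category.assoc, Category.assoc, pullback.lift_snd, Category.comp_id]
    rw [← hbt, ← Scheme.fromSpecResidueField_apply b (IsLocalRing.closedPoint κb), ← Scheme.Hom.comp_apply,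
      ← Scheme.Hom.comp_apply]
    exact congrArg (fun f : Spec κb ⟶ P => f (IsLocalRing.closedPoint κb)) h2
  have hae : Set.range p ⊆ Set.range e := by
    rintro _ ⟨y, rfl⟩
    rw [Subsingleton.elim (α := PrimeSpectrum L) y (IsLocalRing.closedPoint L)]
    exact hba.mem_closed e.isClosedEmbedding.isClosed_range ⟨t, hbe.symm⟩
  obtain ⟨m, hm⟩ := RedSepLib.exists_lift_of_range_subset p e hae
  have hmg : m = g := by
    have h := congrArg (· ≫ π) hm
    simpa [e, p, π, pullback.lift_snd] using h
  rw [← hxP]
  ext1
  show p ≫ i₀ = _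
  rw [← hm, hmg, Category.assoc, pullback.lift_fst, Hom.one_def]
  rfl

end Groth.Agent.SemiNhd19
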