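import Groth.Agent.Lib.NeronIsog19.Basic
import Groth.Agent.Lib.FibGenSch4
import Groth.Agent.Lib.FibDim14.Comp

/-!
# Flatness and quasi-finiteness of homomorphisms near a point of the base
-/

set_option autoImplicit false
set_option linter.style.haveILetI false
set_option linter.unusedSectionVars false
set_option backward.isDefEq.respectTransparency false
universe u

open CategoryTheory CategoryTheory.Limits MonoidalCategory CartesianMonoidalCategory MonObj GrpObj AlgebraicGeometry

noncomputable section

namespace Groth.Agent.SemiNhd19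

variable {S : Scheme.{u}}

theorem isPullback_map {S' : Scheme.{u}} (φ : S' ⟶ S) {X Y : Over S} (f : X ⟶ Y) :
    IsPullback (pullback.fst X.hom φ) ((Over.pullback φ).map f).left f.left (pullback.fst Y.hom φ) := by
  refine IsPullback.of_bot ?_ ?_ (IsPullback.of_hasPullback Y.hom φ)
  · have h2 : ((Over.pullback φ).map f).left ≫ pullback.snd Y.hom φ = pullback.snd X.hom φ :=
      Over.w ((Over.pullback φ).map f)
    rw [h2, Over.w f]
    exact IsPullback.of_hasPullback X.hom φ
  · exact (pullback.lift_fst _ _ _).symm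

theorem unit_point {G : Over S} [GrpObj G] {K : Type u} [Field K] (a : Spec (CommRingCat.of K) ⟶ S) :
    pullback.fst G.hom a (η[Red.bc a G].left (IsLocalRing.closedPoint K)) =
      η[G].left (a (IsLocalRing.closedPoint K)) := by
  show (η[Red.bc a G].left ≫ pullback.fst G.hom a) _ = (a ≫ η[G].left) _
  rw [GrpNeutral20.unit_fst]
  rfl

/-- The fibre dimension at the unit is computed on any field valued fibre. -/
theorem fibreDimAt_unit {G H : Over S} [GrpObj G] (u : G ⟶ H) [LocallyOfFiniteType u.left] {K : Type u} [Field K]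
    (a : Spec (CommRingCat.of K) ⟶ S) :
    FlatMor.fibreDimAt ((Over.pullback a).map u).left (η[Red.bc a G].left (IsLocalRing.closedPoint K)) =
      FlatMor.fibreDimAt u.left (η[G].left (a (IsLocalRing.closedPoint K))) := by
  haveI : LocallyOfFiniteType ((Over.pullback a).map u).left :=
    MorphismProperty.of_isPullback (isPullback_map a u) ‹LocallyOfFiniteType u.left›
  rw [FibDim14.fibreDimAt_baseChange (isPullback_map a u), unit_point]

/-- Over a field a homomorphism which is quasi-finite at the unit is quasi-finite. -/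
theorem locallyQuasiFinite_of_unit {K : Type u} [Field K] (A B : Over (Spec (CommRingCat.of K))) [GrpObj A] [GrpObj B]
    [LocallyOfFiniteType A.hom] [LocallyOfFiniteType B.hom] (f : A ⟶ B) [IsMonHom f]
    (h : FlatMor.fibreDimAt f.left (η[A].left (IsLocalRing.closedPoint K)) ≤ ((0 : ℕ) : WithBot ℕ∞)) :
    LocallyQuasiFinite f.left := by
  haveI : LocallyOfFiniteType f.left := AlgGrpBasic19.lft_left f
  let i₀ := pullback.fst f η[B]
  have hi₀ : AlgGrp.IsKernel i₀ f := by
    show IsPullback i₀ (toUnit _) f η[B]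
    rw [toUnit_unique (toUnit _) (pullback.snd f η[B])]
    exact IsPullback.of_hasPullback f η[B]
  refine GrpUnr20.locallyQuasiFinite_of_kernel f i₀ hi₀ ?_
  obtain ⟨_, hiM⟩ := GrpDim20.exists_grpObj_kernel f i₀ hi₀
  haveI := hiM
  let M := pullback f η[B]
  haveI : LocallyOfFiniteType M.hom := GrpUnr20.kernel_hom f i₀ hi₀ (P := @LocallyOfFiniteType) inferInstance
  refine (GrpUnr20.locallyQuasiFinite_iff M.hom).2 fun x => ?_
  have hM : M.hom = (toUnit M).left := (Over.w (toUnit M)).symm.trans (Category.comp_id _)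
  have sq : IsPullback i₀.left M.hom f.left η[B].left := by
    rw [hM]; exact IsPullback.map (Over.forget _) hi₀
  let eM : ↥M.left := η[M].left.base (IsLocalRing.closedPoint K)
  have heM : i₀.left eM = η[A].left (IsLocalRing.closedPoint K) := by
    rw [← Scheme.Hom.comp_apply, ← Over.comp_left, IsMonHom.one_hom i₀]
  have h0 : FlatMor.fibreDimAt M.hom eM ≤ ((0 : ℕ) : WithBot ℕ∞) := by
    rw [FibDim14.fibreDimAt_baseChange sq eM, heM]; exact h
  rw [GrpDim20.fibreDimAt_point, GrpCM20.localDim_eq] at h0
  rw [GrpDim20.fibreDimAt_point, GrpCM20.localDim_eq]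
  obtain ⟨d, hd⟩ := NeronIsog19.exists_dim_eq M
  rw [hd] at h0 ⊢
  have : d = 0 := Nat.le_zero.1 (by exact_mod_cast h0)
  rw [this]; rfl

/-- Quasi-finite homomorphisms do not raise the dimension. -/
theorem dim_le_of_locallyQuasiFinite {K : Type u} [Field K] (A B : Over (Spec (CommRingCat.of K))) [GrpObj A]
    [GrpObj B] [LocallyOfFiniteType A.hom] [LocallyOfFiniteType B.hom] (f : A ⟶ B) [IsMonHom f] [QuasiCompact f.left]
    [LocallyQuasiFinite f.left] : topologicalKrullDim A.left ≤ topologicalKrullDim B.left := by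
  let N := pullback f η[B]
  let i : N ⟶ A := pullback.fst f η[B]
  have hN : IsPullback i (toUnit _) f η[B] := by
    rw [toUnit_unique (toUnit _) (pullback.snd f η[B])]
    exact IsPullback.of_hasPullback f η[B]
  obtain ⟨hc, hsum⟩ := GrpDim20.range_closed_and_dim A B N f i hN
  obtain ⟨_, hi⟩ := GrpDim20.exists_grpObj_kernel f i hN
  haveI : LocallyOfFiniteType f.left := AlgGrpBasic19.lft_left f
  haveI : LocallyQuasiFinite N.hom := GrpUnr20.kernel_hom f i hN (P := @LocallyQuasiFinite) inferInstance
  haveI : LocallyOfFiniteType N.hom := GrpUnr20.kernel_hom f i hN (P := @LocallyOfFiniteType) inferInstance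
  let e : N.left := η[N].left (IsLocalRing.closedPoint K)
  have h0 : topologicalKrullDim N.left = 0 := by
    rw [← GrpCM20.localDim_eq N e, ← GrpDim20.fibreDimAt_point N.hom e]
    exact (GrpUnr20.locallyQuasiFinite_iff N.hom).1 inferInstance e
  rw [hsum, h0, add_zero]
  exact hc.isClosedEmbedding_subtypeVal.topologicalKrullDim_le

/-- The fibre dimension of a flat group scheme is locally constant. -/
theorem exists_nhd_dim_eq (G : Over S) [GrpObj G] [Flat G.hom] [LocallyOfFinitePresentation G.hom] (s : S) :
    ∃ U : S.Opens, s ∈ U ∧ ∀ y ∈ U,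
      topologicalKrullDim ↥(G.hom ⁻¹' {y}) = topologicalKrullDim ↥(G.hom ⁻¹' {s}) := by
  obtain ⟨x, -, hx, hmax, -⟩ := FibGen4.exists_isMaxFib G.hom (η[G].left s)
  have hs : G.hom (η[G].left s) = s := by
    rw [← Scheme.Hom.comp_apply, Over.w η[G]]
    rfl
  rw [hs] at hx
  obtain ⟨W, hxW, hW⟩ := FibGen4.exists_nhd_fibreDimAt_eq G.hom hmax
  refine ⟨⟨G.hom '' W, G.hom.isOpenMap _ W.2⟩, ⟨x, hxW, hx⟩, ?_⟩
  rintro _ ⟨z, hz, rfl⟩
  rw [← GrpNeutral20.fibreDimAt_eq, hW z hz, GrpNeutral20.fibreDimAt_eq, hx]

/-- Flatness and quasi-finiteness on an open of the base from the fibres over its points. -/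
theorem flat_lqf_restrict {G H : Over S} [GrpObj G] [GrpObj H] [Flat G.hom]
    [LocallyOfFinitePresentation G.hom] [QuasiCompact G.hom] [QuasiSeparated H.hom] [Smooth H.hom]
    (u : G ⟶ H) [IsMonHom u] (U : S.Opens)
    (h : ∀ y ∈ U, FlatMor.fibreDimAt u.left (η[G].left y) ≤ ((0 : ℕ) : WithBot ℕ∞) ∧
      topologicalKrullDim ↥(G.hom ⁻¹' {y}) = topologicalKrullDim ↥(H.hom ⁻¹' {y})) :
    Flat ((Over.pullback U.ι).map u).left ∧ LocallyQuasiFinite ((Over.pullback U.ι).map u).left := by
  let F := Over.pullback U.ι
  let uU := F.map u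
  haveI : QuasiCompact (u.left ≫ H.hom) := by rw [Over.w]; infer_instance
  haveI : QuasiCompact u.left := QuasiCompact.of_comp u.left H.hom
  haveI : LocallyOfFiniteType (u.left ≫ H.hom) := by rw [Over.w]; infer_instance
  haveI : LocallyOfFiniteType u.left := locallyOfFiniteType_of_comp u.left H.hom
  have hfib : ∀ y ∈ U, LocallyQuasiFinite (pullback.snd u.left (H.hom.fiberι y)) ∧
      Flat (pullback.snd u.left (H.hom.fiberι y)) := by
    intro y hy
    let a := S.fromSpecResidueField y
    let A := (Over.pullback a).obj G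
    let B := (Over.pullback a).obj H
    let f : A ⟶ B := AbRigid.fibreMap u y
    haveI : LocallyOfFiniteType A.hom := inferInstanceAs (LocallyOfFiniteType (pullback.snd G.hom a))
    haveI : QuasiCompact A.hom := inferInstanceAs (QuasiCompact (pullback.snd G.hom a))
    haveI : Smooth B.hom := inferInstanceAs (Smooth (pullback.snd H.hom a))
    haveI : IsReduced B.left := AbRigid.isReduced_of_smooth_over_field B.hom
    haveI hq : LocallyQuasiFinite f.left := by
      refine locallyQuasiFinite_of_unit A B f ?_
      show FlatMor.fibreDimAt ((Over.pullback a).map u).left (η[Red.bc a G].left (IsLocalRing.closedPoint _)) ≤ _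
      refine (fibreDimAt_unit (K := S.residueField y) u a).trans_le ?_
      exact (congrArg (fun z => FlatMor.fibreDimAt u.left (η[G].left z))
        (Scheme.fromSpecResidueField_apply y _)).trans_le (h y hy).1
    refine ⟨(AbRigid.fibre_iff u y @LocallyQuasiFinite).2 hq, (AbRigid.fibre_iff u y @Flat).2 ?_⟩
    refine NeronIsog19.flat_of_locallyQuasiFinite A B f ?_
    refine (NeronIsog19.dim_pullback_field (K := S.residueField y) G a).trans (Eq.trans ?_ (NeronIsog19.dim_pullback_field (K := S.residueField y) H a).symm)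
    exact (congrArg (fun z => topologicalKrullDim ↥(G.hom ⁻¹' {z})) (Scheme.fromSpecResidueField_apply y _)).trans
      ((h y hy).2.trans (congrArg (fun z => topologicalKrullDim ↥(H.hom ⁻¹' {z}))
        (Scheme.fromSpecResidueField_apply y _)).symm)
  have key : ∀ (P : MorphismProperty Scheme.{u}) [P.IsStableUnderBaseChange] [P.RespectsIso],
      (∀ y ∈ U, P (pullback.snd u.left (H.hom.fiberι y))) →
      ∀ x : U.toScheme, P (pullback.snd uU.left ((F.obj H).hom.fiberι x)) := by
    intro P _ _ hP x
    let y : S := U.ι x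
    let fH := (F.obj H).hom.fiberι x ≫ pullback.fst H.hom U.ι
    have hfH : Set.range fH ⊆ H.hom ⁻¹' {y} := by
      rintro _ ⟨z, rfl⟩
      show H.hom (pullback.fst H.hom U.ι ((F.obj H).hom.fiberι x z)) = y
      rw [← Scheme.Hom.comp_apply, pullback.condition, Scheme.Hom.comp_apply]
      exact congrArg _ (((F.obj H).hom.range_fiberι x).le ⟨z, rfl⟩)
    let a' := U.toScheme.fromSpecResidueField x
    let l : (F.obj H).hom.fiber x ⟶ H.hom.fiber y :=
      pullback.lift fH (pullback.snd _ _ ≫ Spec.map (U.ι.residueFieldMap x)) (by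
        show ((F.obj H).hom.fiberι x ≫ pullback.fst H.hom U.ι) ≫ H.hom = _
        rw [Category.assoc, pullback.condition, Category.assoc, Scheme.Hom.SpecMap_residueFieldMap_fromSpecResidueField,
          ← Category.assoc, ← Category.assoc]
        exact congrArg (· ≫ U.ι) pullback.condition)
    have hl : l ≫ H.hom.fiberι y = fH := pullback.lift_fst _ _ _
    have sq := ((IsPullback.of_hasPullback uU.left ((F.obj H).hom.fiberι x)).flip.paste_vert
      (isPullback_map U.ι u).flip).flip
    have sq2 : IsPullback (pullback.fst uU.left ((F.obj H).hom.fiberι x) ≫ pullback.fst G.hom U.ι)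
        (pullback.snd uU.left ((F.obj H).hom.fiberι x)) u.left fH := sq
    have sq3 : IsPullback (pullback.lift (pullback.fst uU.left ((F.obj H).hom.fiberι x) ≫ pullback.fst G.hom U.ι)
        (pullback.snd uU.left ((F.obj H).hom.fiberι x) ≫ l)
        (by rw [Category.assoc (pullback.snd _ _) l, hl]; exact sq2.w)) (pullback.snd uU.left ((F.obj H).hom.fiberι x))
        (pullback.snd u.left (H.hom.fiberι y)) l := by
      refine IsPullback.of_right ?_ (pullback.lift_snd _ _ _) (IsPullback.of_hasPullback u.left (H.hom.fiberι y))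
      rw [pullback.lift_fst, hl]
      exact sq2
    exact P.of_isPullback sq3 (hP y x.2)
  haveI : Flat (F.obj G).hom := inferInstanceAs (Flat (pullback.snd G.hom U.ι))
  haveI : LocallyOfFinitePresentation (F.obj G).hom :=
    inferInstanceAs (LocallyOfFinitePresentation (pullback.snd G.hom U.ι))
  haveI : Smooth (F.obj H).hom := inferInstanceAs (Smooth (pullback.snd H.hom U.ι))
  haveI : Flat (uU.left ≫ (F.obj H).hom) := by rw [Over.w uU]; infer_instance
  haveI : LocallyOfFinitePresentation (uU.left ≫ (F.obj H).hom) := by rw [Over.w uU]; infer_instance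
  refine ⟨FlatH4.flat_of_fibres uU.left (F.obj H).hom (key @Flat fun y hy => (hfib y hy).2), ?_⟩
  haveI : LocallyOfFiniteType uU.left := MorphismProperty.of_isPullback (isPullback_map U.ι u) ‹LocallyOfFiniteType u.left›
  exact (GrpUnr20.locallyQuasiFinite_iff_fibres uU).2 fun x =>
    (AbRigid.fibre_iff uU x @LocallyQuasiFinite).1 (key @LocallyQuasiFinite (fun y hy => (hfib y hy).1) x)

end Groth.Agent.SemiNhd19
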