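import Groth.Agent.Lib.SemiNhd19.NoGa
import Groth.Agent.Lib.SemiNhd19.Tors
import Groth.Agent.Lib.SemiNhd19.Fibres
import Groth.Agent.Lib.DiagGL.Chars
import Groth.Agent.Lib.MTRigid29.LocSplitImage
import Groth.Agent.Lib.ProdComp12.Basic
import Mathlib.LinearAlgebra.FreeModule.Finite.Matrix

/-!
# An isogeny on a fibre is flat and quasi-finite near specialisations without additive subgroups
-/

set_option autoImplicit false
set_option linter.style.haveILetI false
set_option linter.unusedSectionVars false
set_option backward.isDefEq.respectTransparency false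
universe u

open CategoryTheory CategoryTheory.Limits MonoidalCategory CartesianMonoidalCategory MonObj GrpObj AlgebraicGeometry

noncomputable section

namespace Groth.Agent.SemiNhd19

variable {S : Scheme.{u}}

theorem fl_pow' {S' : Scheme.{u}} (φ : S' ⟶ S) (G : Over S) [GrpObj G] {T : Over S'} (x : T ⟶ Red.bc φ G) (n : ℕ) :
    DiagGL.fl φ G (x ^ n) = DiagGL.fl φ G x ^ n := by
  induction n with
  | zero => rw [pow_zero, pow_zero, MTRigid29.fl_one]
  | succ n ih => rw [pow_succ, pow_succ, DiagGL.fl_mul, ih]

variable {G H : Over S} [GrpObj G] [GrpObj H] (u : G ⟶ H) [IsMonHom u]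

/-- The kernel of an isogeny has no torsion of large prime order. -/
theorem exists_bound {t : S} (hiso : SGA7.IsIsogenyOver (SGA7.fibreHom t u)) :
    ∃ d : ℕ, ∀ l : ℕ, l.Prime → d < l → NoTorAt u l t := by
  let φ := S.fromSpecResidueField t
  let A := Red.bc φ G
  let B := Red.bc φ H
  let f : A ⟶ B := SGA7.fibreHom t u
  let N := pullback f η[B]
  let i : N ⟶ A := pullback.fst f η[B]
  have hN : AlgGrp.IsKernel i f := by
    show IsPullback i (toUnit _) f η[B]
    rw [toUnit_unique (toUnit _) (pullback.snd f η[B])]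
    exact IsPullback.of_hasPullback f η[B]
  haveI : IsFinite N.hom := hiso.2 N i hN
  haveI : IsAffine N.left := isAffine_of_isAffineHom N.hom
  let k := S.residueField t
  let R := Γ(N.left, ⊤)
  let ψ : CommRingCat.of k ⟶ R := Spec.preimage (N.left.isoSpec.inv ≫ N.hom)
  have hψ : Spec.map ψ = N.left.isoSpec.inv ≫ N.hom := Spec.map_preimage _
  letI : Algebra k R := ψ.hom.toAlgebra
  have hfin : IsFinite (Spec.map ψ) := by rw [hψ]; infer_instance
  rw [IsFinite.SpecMap_iff] at hfin
  haveI : Module.Finite k R := hfin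
  refine ⟨Module.finrank k R, fun l hl hdl L _ g x hg hx hxu => ?_⟩
  subst hg
  let c : CommRingCat.of k ⟶ CommRingCat.of L := S.descResidueField (Scheme.stalkClosedPointTo g)
  have hc : Spec.map c ≫ φ = g := Scheme.descResidueField_stalkClosedPointTo_fromSpecResidueField _ S g
  letI : Algebra k L := c.hom.toAlgebra
  let Z : Over (Spec (CommRingCat.of k)) := Over.mk (Spec.map c)
  let e : (Over.map φ).obj Z ⟶ Over.mk g := Over.homMk (𝟙 _) (by
    show 𝟙 _ ≫ g = Spec.map c ≫ φ
    rw [hc, Category.id_comp])
  obtain ⟨y, hy⟩ := DiagGL.fl_surjective φ G (e ≫ x)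
  have hy1 : y ^ l = 1 := DiagGL.fl_injective φ G (by
    rw [fl_pow', hy, ← MonObj.comp_pow, hx, MonObj.comp_one, MTRigid29.fl_one])
  have hyf : y ≫ f = 1 := DiagGL.fl_injective φ H (by
    show DiagGL.fl φ H (y ≫ (Over.pullback φ).map u) = _
    rw [MTRigid29.fl_map, hy, Category.assoc, hxu, MonObj.comp_one, MTRigid29.fl_one])
  suffices hy0 : y = 1 by
    have h : e ≫ x = 1 := by rw [← hy, hy0, MTRigid29.fl_one]
    haveI : IsIso e.left := inferInstanceAs (IsIso (𝟙 _))
    haveI : IsIso ((Over.forget S).map e) := ‹IsIso e.left›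
    haveI : IsIso e := isIso_of_reflects_iso e (Over.forget S)
    rw [← cancel_epi e, h, MonObj.comp_one]
  by_contra hne
  have hord : orderOf y = l := haveI := Fact.mk hl; orderOf_eq_prime hy1 hne
  have hlift : ∀ j : Fin l, ∃ z : Z ⟶ N, z ≫ i = y ^ (j : ℕ) := fun j => by
    have hw : (y ^ (j : ℕ)) ≫ f = toUnit Z ≫ η[B] := by
      rw [Isogeny14.hom_pow_comp, hyf, one_pow, Hom.one_def]
    exact ⟨hN.lift _ _ hw, hN.lift_fst _ _ _⟩
  choose z hz using hlift
  let gmap : (Z ⟶ N) → (R →ₐ[k] L) := fun z =>
    { toRingHom := (Spec.preimage (z.left ≫ N.left.isoSpec.hom)).hom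
      commutes' := fun a => by
        have h : ψ ≫ Spec.preimage (z.left ≫ N.left.isoSpec.hom) = c := by
          apply Spec.map_injective
          rw [Spec.map_comp, Spec.map_preimage, hψ, Category.assoc, Iso.hom_inv_id_assoc]
          exact Over.w z
        exact congrArg (fun r : CommRingCat.of k ⟶ CommRingCat.of L => r.hom a) h }
  have hinj : Function.Injective (fun j : Fin l => gmap (z j)) := by
    intro a b h
    have h2 : z a = z b := by
      refine Over.OverMorphism.ext ?_
      rw [← cancel_mono N.left.isoSpec.hom, ← Spec.map_preimage ((z a).left ≫ N.left.isoSpec.hom),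
        ← Spec.map_preimage ((z b).left ≫ N.left.isoSpec.hom)]
      exact congrArg Spec.map (CommRingCat.hom_ext (congrArg AlgHom.toRingHom h))
    have h3 : y ^ (a : ℕ) = y ^ (b : ℕ) := (hz a).symm.trans ((congrArg (fun w : Z ⟶ N => w ≫ i) h2).trans (hz b))
    exact Fin.ext (pow_injOn_Iio_orderOf (hord.symm ▸ a.2 : (a : ℕ) < orderOf y) (hord.symm ▸ b.2) h3)
  haveI : Finite (R →ₐ[k] L) := inferInstance
  have h1 := Nat.card_le_card_of_injective _ hinj
  rw [Nat.card_fin] at h1
  have h2 : Nat.card (R →ₐ[k] L) ≤ Module.finrank k R := card_algHom_le_finrank k R L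
  omega

set_option backward.isDefEq.respectTransparency.types false in
/-- Torsion points of the kernel on a base change. -/
theorem point_eq_one {s : S} {l : ℕ} (hT : NoTorAt u l s) {S' : Scheme.{u}} (φ : S' ⟶ S) {L : Type u} [Field L]
    (c : Spec (CommRingCat.of L) ⟶ S') (hc : φ (c (IsLocalRing.closedPoint L)) = s) (y : Over.mk c ⟶ Red.bc φ G)
    (hy : y ^ l = 1) (hyu : y ≫ (Over.pullback φ).map u = 1) : y = 1 := by
  apply DiagGL.fl_injective φ G
  refine Eq.trans (b := (1 : (Over.map φ).obj (Over.mk c) ⟶ G)) ?_ (MTRigid29.fl_one φ).symm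
  refine hT L (c ≫ φ) (DiagGL.fl φ G y) ((Scheme.Hom.comp_apply c φ _).trans hc) ?_ ?_
  · exact (fl_pow' φ G y l).symm.trans ((congrArg (DiagGL.fl φ G) hy).trans (MTRigid29.fl_one φ))
  · exact (MTRigid29.fl_map φ y u).symm.trans ((congrArg (DiagGL.fl φ H) hyu).trans (MTRigid29.fl_one φ))

variable [IsCommMonObj G] [Flat G.hom] [IsSeparated G.hom] [LocallyOfFinitePresentation G.hom] [QuasiCompact G.hom]
  [LocallyOfFiniteType H.hom]

/-- Without additive subgroups and torsion the kernel on the geometric fibre is finite. -/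
theorem locallyQuasiFinite_geomFibre {s : S} (hs : SGA7.FibreUnipotentRankZero s G) {l : ℕ} (hl : l.Prime)
    (hls : (l : S.residueField s) ≠ 0) (hT : NoTorAt u l s) :
    LocallyQuasiFinite ((Over.pullback (Red.geomPt s)).map u).left := by
  let K := AlgebraicClosure (S.residueField s)
  let φ : Spec (CommRingCat.of K) ⟶ S := Red.geomPt s
  let A := Red.bc φ G
  let B := Red.bc φ H
  let f : A ⟶ B := (Over.pullback φ).map u
  haveI : LocallyOfFiniteType A.hom := inferInstanceAs (LocallyOfFiniteType (pullback.snd G.hom φ))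
  haveI : LocallyOfFiniteType B.hom := inferInstanceAs (LocallyOfFiniteType (pullback.snd H.hom φ))
  haveI : QuasiCompact A.hom := inferInstanceAs (QuasiCompact (pullback.snd G.hom φ))
  haveI : IsSeparated B.hom := AbRigid.isSeparated_of_grpObj B
  haveI : LocallyOfFiniteType f.left := AlgGrpBasic19.lft_left f
  let N := pullback f η[B]
  let i : N ⟶ A := pullback.fst f η[B]
  have hN : AlgGrp.IsKernel i f := by
    show IsPullback i (toUnit _) f η[B]
    rw [toUnit_unique (toUnit _) (pullback.snd f η[B])]
    exact IsPullback.of_hasPullback f η[B]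
  obtain ⟨_, hi⟩ := GrpDim20.exists_grpObj_kernel f i hN
  haveI := hi
  haveI : Mono i := ⟨fun a b h => hN.hom_ext h (toUnit_unique _ _)⟩
  haveI := AbelGrp20.isCommMonObj_of_mono i
  haveI : IsClosedImmersion η[B].left := isClosedImmersion_of_comp_eq_id B.hom η[B].left (Over.w η[B])
  haveI : IsClosedImmersion i.left :=
    MorphismProperty.of_isPullback (IsPullback.map (Over.forget _) hN).flip ‹IsClosedImmersion η[B].left›
  haveI : LocallyOfFiniteType N.hom := by rw [← Over.w i]; infer_instance
  haveI : QuasiCompact N.hom := by rw [← Over.w i]; infer_instance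
  haveI : Flat N.hom := ProdComp12.flat_over_field N.hom
  haveI : IsSeparated N.hom := AbRigid.isSeparated_of_grpObj N
  haveI : LocallyOfFinitePresentation N.hom := LocallyOfFinitePresentation.iff_locallyOfFiniteType.2 inferInstance
  have hlK : (l : K) ≠ 0 := fun h => hls ((algebraMap (S.residueField s) K).injective (by rw [map_natCast, map_zero, h]))
  suffices hfin : IsFinite N.hom from GrpUnr20.locallyQuasiFinite_of_kernel f i hN inferInstance
  refine isFinite_of_noGa_noTor (fun j hj hjc => ?_) hl fun Y h hh => ?_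
  · haveI := hj; haveI := hjc
    exact hs (j ≫ i) inferInstance (inferInstanceAs (IsClosedImmersion (j.left ≫ i.left)))
  let q := 𝟙 N ^ l
  have hlu : IsUnit (l : Γ(Spec (CommRingCat.of K), ⊤)) := by
    have h0 := (isUnit_iff_ne_zero.2 hlK).map (Scheme.ΓSpecIso (CommRingCat.of K)).inv.hom
    rwa [map_natCast] at h0
  haveI : Etale q.left := etale_pow_flat N hlu
  let T := pullback q η[N]
  let iT : T ⟶ N := pullback.fst q η[N]
  have hsq : IsPullback iT.left (pullback.snd q η[N]).left q.left η[N].left :=
    IsPullback.map (Over.forget _) (IsPullback.of_hasPullback q η[N])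
  haveI : Etale (pullback.snd q η[N]).left := MorphismProperty.of_isPullback hsq ‹Etale q.left›
  haveI : IsReduced T.left := by
    haveI : Smooth T.hom := by
      rw [← Over.w (pullback.snd q η[N])]
      haveI : IsIso (𝟙_ (Over (Spec (CommRingCat.of K)))).hom := inferInstanceAs (IsIso (𝟙 _))
      infer_instance
    exact OrbitTop19.isReduced_of_smooth T.hom
  haveI : IsClosedImmersion η[N].left := isClosedImmersion_of_comp_eq_id N.hom η[N].left (Over.w η[N])
  have hiT : iT ^ l = 1 := by
    rw [← Category.comp_id iT, ← MonObj.comp_pow, Hom.one_def]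
    exact pullback.condition.trans (congrArg (· ≫ η[N]) (toUnit_unique _ _))
  suffices hone : iT = 1 by
    have hw : h ≫ q = toUnit Y ≫ η[N] := by rw [MonObj.comp_pow, Category.comp_id, hh, Hom.one_def]
    rw [← pullback.lift_fst h (toUnit Y) hw, show pullback.fst q η[N] = iT from rfl, hone, MonObj.comp_one]
  have hr : Set.range iT.left ⊆ Set.range η[N].left := by
    rintro _ ⟨p, rfl⟩
    let Z : Over (Spec (CommRingCat.of K)) := Over.mk (T.left.fromSpecResidueField p ≫ T.hom)
    let m : Z ⟶ T := Over.homMk (T.left.fromSpecResidueField p) rfl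
    have h0 : m ≫ iT = 1 := by
      rw [← cancel_mono i, MonObj.one_comp]
      refine point_eq_one u hT φ (L := T.left.residueField p) (T.left.fromSpecResidueField p ≫ T.hom) ?_ _ ?_ ?_
      · refine (congrArg φ (Subsingleton.elim (α := PrimeSpectrum K) _ (IsLocalRing.closedPoint K))).trans ?_
        show (Spec.map _ ≫ S.fromSpecResidueField s) _ = s
        rw [Scheme.Hom.comp_apply]
        exact Scheme.fromSpecResidueField_apply _ _
      · rw [← Isogeny14.hom_pow_comp i, ← MonObj.comp_pow, hiT, MonObj.comp_one, MonObj.one_comp]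
      · show ((m ≫ iT) ≫ i) ≫ f = 1
        rw [Category.assoc, show i ≫ f = 1 from hN.w.trans (Hom.one_def ..).symm, MonObj.comp_one]
    let pt : Z.left := IsLocalRing.closedPoint (T.left.residueField p)
    have h1 : iT.left (m.left pt) = η[N].left ((toUnit Z).left pt) := by
      rw [← Scheme.Hom.comp_apply, ← Scheme.Hom.comp_apply, ← Over.comp_left, ← Over.comp_left, h0, Hom.one_def]
    have h2 : m.left pt = p := Scheme.fromSpecResidueField_apply p _
    rw [h2] at h1
    exact ⟨_, h1.symm⟩
  obtain ⟨w, hw⟩ := PtsDetect19.lift_of_range iT η[N] hr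
  rw [← hw, toUnit_unique w (toUnit _), Hom.one_def]

/-- Primes avoiding a bound and a residue characteristic. -/
theorem exists_prime (s : S) (d : ℕ) : ∃ l : ℕ, l.Prime ∧ d < l ∧ (l : S.residueField s) ≠ 0 := by
  obtain ⟨l, hl1, hl⟩ := Nat.exists_infinite_primes (max d (ringChar (S.residueField s)) + 1)
  refine ⟨l, hl, by omega, fun h => ?_⟩
  rw [ringChar.spec] at h
  rcases (Nat.dvd_prime hl).1 h with h' | h'
  · have h1 : ((1 : ℕ) : S.residueField s) = 0 := (ringChar.spec _ 1).2 (by rw [h'])
    exact one_ne_zero (α := S.residueField s) (by simpa using h1)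
  · omega

end Groth.Agent.SemiNhd19
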