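import Groth.Agent.Lib.SemiNhd19.Ext
import Groth.Agent.Lib.Isogeny14.Kernel

/-!
# Isogenies over a discrete valuation ring
-/

set_option autoImplicit false
set_option linter.style.haveILetI false
set_option linter.unusedSectionVars false
set_option backward.isDefEq.respectTransparency false
universe u

open CategoryTheory CategoryTheory.Limits MonoidalCategory CartesianMonoidalCategory MonObj GrpObj AlgebraicGeometry

noncomputable section

namespace Groth.Agent.SemiNhd19

variable {R K : Type u} [CommRing R] [IsDomain R] [Field K] [Algebra R K] [IsFractionRing R K]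

/-- The generic point of the base factors through the generic fibre. -/
theorem exists_genFactor : ∃ ψ : Spec ((Spec (CommRingCat.of R)).residueField (⟨⊥, Ideal.isPrime_bot⟩ : PrimeSpectrum R)) ⟶
    Spec (CommRingCat.of K), ψ ≫ Spec.map (CommRingCat.ofHom (algebraMap R K)) =
      (Spec (CommRingCat.of R)).fromSpecResidueField (⟨⊥, Ideal.isPrime_bot⟩ : PrimeSpectrum R) := by
  let S := Spec (CommRingCat.of R)
  let t : S := (⟨⊥, Ideal.isPrime_bot⟩ : PrimeSpectrum R)
  obtain ⟨φ, hφ⟩ : ∃ φ : CommRingCat.of R ⟶ S.residueField t, Spec.map φ = S.fromSpecResidueField t :=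
    ⟨_, Spec.map_preimage _⟩
  have hinj : Function.Injective φ.hom := by
    rw [RingHom.injective_iff_ker_eq_bot]
    have h : Spec.map φ (IsLocalRing.closedPoint (S.residueField t)) = t :=
      (congrArg (fun f : Spec (S.residueField t) ⟶ S => f (IsLocalRing.closedPoint (S.residueField t))) hφ).trans
        (Scheme.fromSpecResidueField_apply t _)
    refine (Eq.trans ?_ (congrArg (fun q : PrimeSpectrum R => q.asIdeal) h))
    ext a
    show φ.hom a = 0 ↔ φ.hom a ∈ (IsLocalRing.closedPoint (S.residueField t)).asIdeal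
    refine Iff.trans ?_ (Iff.of_eq (congrArg (φ.hom a ∈ ·) IsLocalRing.maximalIdeal_eq_bot.symm))
    exact Ideal.mem_bot.symm
  obtain ⟨χ, hχ⟩ := exists_extension (K := K) φ.hom hinj
  refine ⟨Spec.map (CommRingCat.ofHom χ), ?_⟩
  show Spec.map (CommRingCat.ofHom χ) ≫ _ = S.fromSpecResidueField t
  rw [← hφ, ← Spec.map_comp]
  exact congrArg Spec.map (CommRingCat.hom_ext hχ)

/-- The additive group is not finite. -/
theorem not_isFinite_Ga {L : Type u} [Field L] [IsAlgClosed L] (h : IsFinite (Red.Ga (Spec (CommRingCat.of L))).hom) :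
    False := by
  haveI := h
  obtain ⟨_, _, _⟩ := AttrBorel21.smooth_affine_Ga L
  haveI : ConnectedSpace (Red.Ga (Spec (CommRingCat.of L))).left := by assumption
  have h1 := Semiab15.trivial_of_finite_connected (Red.Ga (Spec (CommRingCat.of L)))
  have h3 := congrArg (fun x => (GaPts.ptOfFn (1 : Γ((𝟙_ (Over (Spec (CommRingCat.of L)))).left, ⊤)) :
    𝟙_ (Over (Spec (CommRingCat.of L))) ⟶ Red.Ga (Spec (CommRingCat.of L))) ≫ x) h1
  simp only [Category.comp_id, MonObj.comp_one] at h3
  have h4 := congrArg Red.gaFn h3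
  rw [GaPts.gaFn_ptOfFn, GaPts.gaFn_one] at h4
  haveI : Nontrivial Γ((𝟙_ (Over (Spec (CommRingCat.of L)))).left, ⊤) :=
    (Scheme.ΓSpecIso (CommRingCat.of L)).commRingCatIsoToRingEquiv.toEquiv.nontrivial
  exact one_ne_zero h4

/-- The additive group does not embed into a proper group. -/
theorem fibreUnipotentRankZero_of_isProper {S : Scheme.{u}} (G : Over S) [GrpObj G] (s : S)
    (h : IsProper (Red.geomFibre s G).hom) : SGA7.FibreUnipotentRankZero s G := by
  intro j hj hjc
  haveI := hj; haveI := hjc; haveI := h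
  obtain ⟨_, _, _⟩ := AttrBorel21.smooth_affine_Ga (AlgebraicClosure (S.residueField s))
  let A := Red.Ga (Spec (CommRingCat.of (AlgebraicClosure (S.residueField s))))
  haveI : IsAffine A.left := by assumption
  haveI : IsAffineHom A.hom := isAffineHom_of_isAffine _
  haveI : IsProper A.hom := by rw [← Over.w j]; infer_instance
  exact not_isFinite_Ga (L := AlgebraicClosure (S.residueField s)) (IsFinite.iff_isProper_and_isAffineHom.2 ⟨inferInstance, inferInstance⟩)

variable [IsLocalRing R]

/-- A homomorphism whose generic fibre is a finite isogeny is flat when the special fibre has no additive subgroups. -/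
theorem flat_of_semistable (A B : Over (Spec (CommRingCat.of R))) [GrpObj A] [IsCommMonObj A] [Flat A.hom]
    [IsSeparated A.hom] [LocallyOfFinitePresentation A.hom] [QuasiCompact A.hom] [GrpObj B] [Smooth B.hom]
    [IsSeparated B.hom] (f : A ⟶ B) [IsMonHom f] (hA : SGA7.FibreUnipotentRankZero (IsLocalRing.closedPoint R) A)
    (hfin : IsFinite ((SGA7.genFib R K).map f).left) (hsurj : Surjective ((SGA7.genFib R K).map f).left) :
    Flat f.left := by
  let S := Spec (CommRingCat.of R)
  let t : S := (⟨⊥, Ideal.isPrime_bot⟩ : PrimeSpectrum R)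
  let j := Spec.map (CommRingCat.ofHom (algebraMap R K))
  obtain ⟨ψ, hψ⟩ := exists_genFactor (R := R) (K := K)
  haveI : IsFinite (SGA7.fibreHom t f).left := of_factor @IsFinite f j ψ _ hψ hfin
  haveI : Surjective (SGA7.fibreHom t f).left := of_factor @Surjective f j ψ _ hψ hsurj
  have hiso : SGA7.IsIsogenyOver (SGA7.fibreHom t f) :=
    ⟨inferInstance, fun N i hi => GrpUnr20.kernel_hom _ i hi (P := @IsFinite) inferInstance⟩
  let s : S := IsLocalRing.closedPoint R
  obtain ⟨U, hsU, hf, -⟩ := exists_nhd f (show t ⤳ s from (PrimeSpectrum.le_iff_specializes _ _).1 bot_le) hA hiso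
  have hU : U = ⊤ := TopologicalSpace.Opens.ext (Set.eq_univ_of_forall fun x =>
    (IsLocalRing.specializes_closedPoint (show PrimeSpectrum R from x)).mem_open U.2 hsU)
  subst hU
  haveI : IsIso (Scheme.Opens.ι (⊤ : S.Opens)) := inferInstanceAs (IsIso (Scheme.topIso S).hom)
  have hsq := isPullback_map (Scheme.Opens.ι (⊤ : S.Opens)) f
  exact (MorphismProperty.arrow_mk_iso_iff @Flat (Arrow.isoMk (asIso (pullback.fst A.hom _))
    (asIso (pullback.fst B.hom _)) hsq.w : Arrow.mk _ ≅ Arrow.mk f.left)).1 hf

omit [IsLocalRing R] in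
/-- Flat homomorphisms vanishing on additive subgroups exclude them. -/
theorem not_Ga_of_flat {L : Type u} [Field L] [IsAlgClosed L] {A B : Over (Spec (CommRingCat.of L))} [GrpObj A]
    [GrpObj B] [LocallyOfFiniteType A.hom] [LocallyOfFiniteType B.hom] [QuasiCompact A.hom]
    (f : A ⟶ B) [IsMonHom f] [Flat f.left] (hdim : topologicalKrullDim A.left = topologicalKrullDim B.left)
    (j : Red.Ga (Spec (CommRingCat.of L)) ⟶ A) [IsClosedImmersion j.left] (h : j ≫ f = 1) : False := by
  let G₁ := Red.Ga (Spec (CommRingCat.of L))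
  haveI : IsSeparated B.hom := AbRigid.isSeparated_of_grpObj B
  haveI : QuasiCompact f.left := Semiab15.qc_left f
  haveI : LocallyOfFiniteType f.left := AlgGrpBasic19.lft_left f
  haveI := NeronIsog19.locallyQuasiFinite_of_flat A B f hdim
  haveI : LocallyQuasiFinite ((toUnit G₁).left ≫ η[B].left) := by
    rw [← Over.comp_left, ← Hom.one_def, ← h, Over.comp_left]
    infer_instance
  haveI : LocallyQuasiFinite G₁.hom := by
    have e : G₁.hom = (toUnit G₁).left := (Over.w (toUnit G₁)).symm.trans (Category.comp_id _)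
    rw [e]
    exact LocallyQuasiFinite.of_comp _ η[B].left
  obtain ⟨_, _, _⟩ := AttrBorel21.smooth_affine_Ga L
  haveI : IsAffine G₁.left := by assumption
  haveI : CompactSpace G₁.left := inferInstance
  haveI : Finite G₁.left := Set.finite_univ_iff.1
    ((G₁.hom.finite_preimage_singleton (IsLocalRing.closedPoint L)).subset
      fun z _ => Subsingleton.elim (α := PrimeSpectrum L) _ _)
  haveI : IsAffineHom G₁.hom := isAffineHom_of_isAffine _
  haveI : LocallyOfFiniteType G₁.hom := by rw [← Over.w j]; infer_instance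
  exact not_isFinite_Ga (DegRank.isFinite_of_finite G₁.hom)

end Groth.Agent.SemiNhd19
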