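import Groth.Agent.Lib.SemiNhd19.Neron

/-!
# Semistability is read on the Néron model
-/

set_option autoImplicit false
set_option linter.style.haveILetI false
set_option linter.unusedSectionVars false
set_option backward.isDefEq.respectTransparency false
universe u

open CategoryTheory CategoryTheory.Limits MonoidalCategory CartesianMonoidalCategory MonObj GrpObj AlgebraicGeometry

noncomputable section

namespace Groth.Agent.SemiNhd19

variable {R K : Type u} [CommRing R] [Field K] [Algebra R K]

/-- Extensions of homomorphisms to Néron models are homomorphisms. -/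
theorem exists_extension_hom {N : Over (Spec (CommRingCat.of R))} [GrpObj N] (hN : SGA7.IsNeron R K N)
    {G : Over (Spec (CommRingCat.of R))} [GrpObj G] [Smooth G.hom]
    (e : (SGA7.genFib R K).obj G ⟶ (SGA7.genFib R K).obj N) [IsMonHom e] :
    ∃ u : G ⟶ N, IsMonHom u ∧ (SGA7.genFib R K).map u = e := by
  let F := SGA7.genFib R K
  obtain ⟨u, hu⟩ := (hN.2.2.2 G inferInstance).2 e
  have hu' : F.map u = e := hu
  haveI : Smooth (G ⊗ G).hom := inferInstanceAs (Smooth (pullback.fst G.hom G.hom ≫ G.hom))
  have hmul : (fst G G * snd G G) ≫ u = (fst G G ≫ u) * (snd G G ≫ u) := by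
    refine (hN.2.2.2 (G ⊗ G) inferInstance).1 ?_
    show F.map _ = F.map _
    rw [Functor.map_comp, Functor.map_mul, Functor.map_mul, Functor.map_comp, Functor.map_comp, hu', MonObj.mul_comp]
  refine ⟨u, TorsorSch25.isMonHom_of_points u fun W x y => ?_, hu'⟩
  have h := congrArg (fun f => lift x y ≫ f) hmul
  simpa [MonObj.comp_mul, MonObj.comp_mul_assoc, ← Category.assoc] using h

/-- An additive subgroup of a fibre lands in every open subgroup. -/
theorem fibresUnipotentRankZero_of_isOpenImmersion {S : Scheme.{u}} {G N : Over S} [GrpObj G] [GrpObj N]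
    [LocallyOfFiniteType G.hom] (u : G ⟶ N) [IsMonHom u] [IsOpenImmersion u.left]
    (hG : SGA7.FibresUnipotentRankZero G) : SGA7.FibresUnipotentRankZero N := by
  intro s j hj hjc
  haveI := hj; haveI := hjc
  let φ := Red.geomPt s
  let v : Red.bc φ G ⟶ Red.bc φ N := (Over.pullback φ).map u
  haveI : IsOpenImmersion v.left := MorphismProperty.of_isPullback (isPullback_map φ u) ‹IsOpenImmersion u.left›
  have ho : IsOpen (Set.range v.left) := v.left.isOpenEmbedding.isOpen_range
  have hc : IsClosed (Set.range v.left) := AbRigid.isClosed_range_of_isOpen v ho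
  let A := Red.Ga (Spec (CommRingCat.of (AlgebraicClosure (S.residueField s))))
  obtain ⟨_, _, _⟩ := AttrBorel21.smooth_affine_Ga (AlgebraicClosure (S.residueField s))
  haveI : ConnectedSpace A.left := by assumption
  have hp : j.left ⁻¹' Set.range v.left = Set.univ := by
    refine IsClopen.eq_univ ⟨hc.preimage j.left.continuous, ho.preimage j.left.continuous⟩
      ⟨η[A].left (IsLocalRing.closedPoint _), η[Red.bc φ G].left (IsLocalRing.closedPoint _), ?_⟩
    rw [← Scheme.Hom.comp_apply, ← Scheme.Hom.comp_apply, ← Over.comp_left, ← Over.comp_left,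
      IsMonHom.one_hom, IsMonHom.one_hom]
  have hr : Set.range j.left ⊆ Set.range v.left := by
    rintro _ ⟨a, rfl⟩
    have : a ∈ j.left ⁻¹' Set.range v.left := hp ▸ Set.mem_univ a
    exact this
  let l := IsOpenImmersion.lift v.left j.left hr
  have hl : l ≫ v.left = j.left := IsOpenImmersion.lift_fac _ _ _
  let j' : A ⟶ Red.bc φ G := Over.homMk l (by
    rw [← Over.w v, reassoc_of% hl]
    exact Over.w j)
  have hj' : j' ≫ v = j := Over.OverMorphism.ext hl
  haveI : Mono v := Over.mono_of_mono_left v
  haveI : IsMonHom j' := TorsorSch25.isMonHom_of_points j' fun W x y => by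
    refine (cancel_mono v).1 ?_
    rw [Category.assoc, hj', MonObj.mul_comp _ _ v, Category.assoc, Category.assoc, hj', MonObj.mul_comp]
  haveI : IsClosedImmersion (j'.left ≫ v.left) := by rw [← Over.comp_left, hj']; infer_instance
  exact hG s j' inferInstance (IsClosedImmersion.of_comp j'.left v.left)

end Groth.Agent.SemiNhd19
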