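import Groth.Agent.Lib.SemiNhd19.Dvr
import Groth.Agent.S4077

/-!
# Flatness of powers and isogenies of Néron models
-/

set_option autoImplicit false
set_option linter.style.haveILetI false
set_option linter.unusedSectionVars false
set_option backward.isDefEq.respectTransparency false
universe u

open CategoryTheory CategoryTheory.Limits MonoidalCategory CartesianMonoidalCategory MonObj GrpObj AlgebraicGeometry

noncomputable section

namespace Groth.Agent.SemiNhd19

variable {R : Type u} [CommRing R] [IsDomain R] [IsDiscreteValuationRing R]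

theorem isNeron_of_isNeronModelOf {A : Over (Spec (CommRingCat.of R))}
    (hA : Neron.IsNeronModelOf R A ((Neron.genericFibre R).obj A) (Iso.refl _)) :
    SGA7.IsNeron R (FractionRing R) A := by
  refine ⟨hA.1, hA.2.1, hA.2.2.2.1, fun Y hY => ?_⟩
  have h := hA.2.2.2.2 Y hY
  simpa using h

omit [IsDomain R] [IsDiscreteValuationRing R] in
theorem isUnit_of_not_dvd [IsLocalRing R] {d : ℕ} (h : ¬ ringChar (IsLocalRing.ResidueField R) ∣ d) :
    IsUnit (d : R) := by
  by_contra hu
  refine h ((ringChar.spec _ d).1 ?_)
  rw [← map_natCast (IsLocalRing.residue R)]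
  exact (IsLocalRing.residue_eq_zero_iff _).2 ((IsLocalRing.mem_maximalIdeal _).2 hu)

omit [IsDomain R] [IsDiscreteValuationRing R] in
/-- The residue characteristic kills the residue field of the closed point. -/
theorem natCast_residueField_eq_zero [IsLocalRing R] {d : ℕ} (h : ringChar (IsLocalRing.ResidueField R) ∣ d) :
    (d : (Spec (CommRingCat.of R)).residueField (IsLocalRing.closedPoint R)) = 0 := by
  let S := Spec (CommRingCat.of R)
  let s : S := IsLocalRing.closedPoint R
  obtain ⟨φ, hφ⟩ : ∃ φ : CommRingCat.of R ⟶ S.residueField s, Spec.map φ = S.fromSpecResidueField s :=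
    ⟨_, Spec.map_preimage _⟩
  have hd : (d : R) ∈ IsLocalRing.maximalIdeal R := by
    rw [← IsLocalRing.residue_eq_zero_iff, map_natCast]
    exact (ringChar.spec _ d).2 h
  have hs : Spec.map φ (IsLocalRing.closedPoint (S.residueField s)) = s :=
    (congrArg (fun f : Spec (S.residueField s) ⟶ S => f (IsLocalRing.closedPoint (S.residueField s))) hφ).trans
      (Scheme.fromSpecResidueField_apply s _)
  have h2 : (d : R) ∈ Ideal.comap φ.hom (IsLocalRing.closedPoint (S.residueField s)).asIdeal := by
    have := (congrArg (fun q : PrimeSpectrum R => q.asIdeal) hs)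
    exact (SetLike.ext_iff.1 this _).2 hd
  have h3 : φ.hom (d : R) ∈ (⊥ : Ideal (S.residueField s)) := by
    rw [← IsLocalRing.maximalIdeal_eq_bot (R := S.residueField s)]
    exact h2
  simpa using h3

variable {A : Over (Spec (CommRingCat.of R))} [GrpObj A] [IsCommMonObj A]
  [IsProper ((Neron.genericFibre R).obj A).hom] [GeometricallyIntegral ((Neron.genericFibre R).obj A).hom]

/-- The power maps on the generic fibre of an abelian Néron model are finite and surjective. -/
theorem finite_surjective_pow_gen [Smooth A.hom] (n : ℕ) (hn : 1 ≤ n) :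
    IsFinite ((SGA7.genFib R (FractionRing R)).map (𝟙 A ^ n)).left ∧
      Surjective ((SGA7.genFib R (FractionRing R)).map (𝟙 A ^ n)).left := by
  let F := SGA7.genFib R (FractionRing R)
  let X := (Neron.genericFibre R).obj A
  haveI : GeometricallyConnected X.hom := Unital.geometricallyConnected_of_geometricallyIntegral X.hom
  haveI : Smooth X.hom := inferInstanceAs (Smooth (pullback.snd A.hom (Neron.genPt R)))
  haveI : GeometricallyReduced X.hom := AbRigid.geometricallyReduced_of_smooth X.hom
  obtain ⟨h1, -, h2⟩ := Isogeny14.isFinite_flat_surjective_pow X n hn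
  have e : F.map (𝟙 A ^ n) = 𝟙 X ^ n :=
    (map_pow F.homMonoidHom (𝟙 A) n).trans (congrArg (· ^ n) (F.map_id A))
  rw [e]
  exact ⟨h1, h2⟩

/-- A flat power divisible by the residue characteristic forces semistable reduction. -/
theorem hasSemistableReduction_of_flat_pow [Smooth A.hom] [IsSeparated A.hom] [QuasiCompact A.hom] {n : ℕ}
    (hn : ringChar (IsLocalRing.ResidueField R) ∣ n) (hf : Flat (𝟙 A ^ n).left) :
    SGA7.FibresUnipotentRankZero A := by
  intro s
  by_cases hs : (show PrimeSpectrum R from s).asIdeal = ⊥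
  · have : s = (⟨⊥, Ideal.isPrime_bot⟩ : PrimeSpectrum R) := PrimeSpectrum.ext hs
    subst this
    refine fibreUnipotentRankZero_of_isProper A _ ?_
    obtain ⟨ψ, hψ⟩ := exists_genFactor (R := R) (K := FractionRing R)
    let j := Spec.map (CommRingCat.ofHom (algebraMap R (FractionRing R)))
    let s₀ : Spec (CommRingCat.of R) := (⟨⊥, Ideal.isPrime_bot⟩ : PrimeSpectrum R)
    let a : Spec (CommRingCat.of (AlgebraicClosure ((Spec (CommRingCat.of R)).residueField s₀))) ⟶
        Spec (CommRingCat.of (FractionRing R)) :=
      Spec.map (CommRingCat.ofHom (algebraMap ((Spec (CommRingCat.of R)).residueField s₀)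
        (AlgebraicClosure ((Spec (CommRingCat.of R)).residueField s₀)))) ≫ ψ
    have ha : a ≫ j = Red.geomPt s₀ := (Category.assoc _ _ _).trans (congrArg (_ ≫ ·) hψ)
    let e := SpreadSub19.bcComp j a (c := Red.geomPt s₀) ha A
    haveI : IsIso e.inv.left := inferInstanceAs (IsIso ((Over.forget _).map e.inv))
    haveI : IsProper (Red.bc a (Red.bc j A)).hom :=
      MorphismProperty.pullback_snd _ a ‹IsProper ((Neron.genericFibre R).obj A).hom›
    show IsProper (Red.bc (Red.geomPt s₀) A).hom
    rw [← Over.w e.inv]
    infer_instance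
  · have : s = IsLocalRing.closedPoint R := PrimeSpectrum.ext
      (IsLocalRing.eq_maximalIdeal (Ring.DimensionLEOne.maximalOfPrime hs (show PrimeSpectrum R from s).isPrime))
    subst this
    intro j hj hjc
    haveI := hj; haveI := hjc
    let s₀ : Spec (CommRingCat.of R) := IsLocalRing.closedPoint R
    let L := AlgebraicClosure ((Spec (CommRingCat.of R)).residueField s₀)
    let φ := Red.geomPt s₀
    let G := Red.bc φ A
    haveI : LocallyOfFiniteType G.hom := inferInstanceAs (LocallyOfFiniteType (pullback.snd A.hom φ))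
    haveI : QuasiCompact G.hom := inferInstanceAs (QuasiCompact (pullback.snd A.hom φ))
    have e : (Over.pullback φ).map (𝟙 A ^ n) = 𝟙 G ^ n :=
      (map_pow (Over.pullback φ).homMonoidHom (𝟙 A) n).trans (congrArg (· ^ n) ((Over.pullback φ).map_id A))
    haveI : Flat (𝟙 G ^ n).left := by
      rw [← e]; exact MorphismProperty.of_isPullback (isPullback_map φ (𝟙 A ^ n)) hf
    haveI := TorsLift22.isMonHom_zpow G n
    refine not_Ga_of_flat (L := L) (𝟙 G ^ n) rfl j ?_
    have hL : (n : L) = 0 := by
      rw [← map_natCast (algebraMap ((Spec (CommRingCat.of R)).residueField s₀) L)]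
      exact (congrArg _ (natCast_residueField_eq_zero hn)).trans (map_zero _)
    have hGa : (𝟙 (Red.Ga (Spec (CommRingCat.of L)))) ^ n = 1 := by
      refine GaPts.gaFn_injective ?_
      show Red.gaFn (𝟙 (Red.Ga (Spec (CommRingCat.of L))) ^ n) = Red.gaFn 1
      have hp : ∀ m : ℕ, Red.gaFn (𝟙 (Red.Ga (Spec (CommRingCat.of L))) ^ m) =
          (m : Γ((Red.Ga (Spec (CommRingCat.of L))).left, ⊤)) * Red.gaFn (𝟙 (Red.Ga (Spec (CommRingCat.of L)))) := by
        intro m
        induction m with
        | zero => rw [pow_zero, GaPts.gaFn_one, Nat.cast_zero, zero_mul]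
        | succ m ih => rw [pow_succ, GaPts.gaFn_mul, ih, Nat.cast_succ, add_mul, _root_.one_mul]
      have hz : (n : Γ((Red.Ga (Spec (CommRingCat.of L))).left, ⊤)) = 0 := by
        have h0 := congrArg (((Red.Ga (Spec (CommRingCat.of L))).hom.appTop.hom).comp
          (Scheme.ΓSpecIso (CommRingCat.of L)).inv.hom) hL
        rwa [map_natCast, map_zero] at h0
      rw [hp, hz, zero_mul, GaPts.gaFn_one]
    rw [MonObj.comp_pow, Category.comp_id, ← Category.id_comp j, ← Isogeny14.hom_pow_comp j, hGa, MonObj.one_comp]

end Groth.Agent.SemiNhd19
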