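import Groth.Agent.Lib.SemiNhd19.Pseudo
import Groth.Agent.Lib.ZConn5.ProperFibre

/-!
# Good reduction from a special fibre without additive subgroups and subtori
-/

set_option autoImplicit false
set_option linter.style.haveILetI false
set_option linter.unusedSectionVars false
set_option backward.isDefEq.respectTransparency false
universe u

open CategoryTheory CategoryTheory.Limits MonoidalCategory CartesianMonoidalCategory MonObj GrpObj AlgebraicGeometry

noncomputable section

namespace Groth.Agent.SemiNhd19

/-- An open subgroup with underlying set the neutral components has connected fibres at all field points. -/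
theorem connectedSpace_fibre {S : Scheme.{u}} {G P' : Over S} [GrpObj P'] [LocallyOfFiniteType P'.hom]
    (i : G ⟶ P') [IsOpenImmersion i.left] (hr : Set.range i.left = SGA3x.neutralSet P') (k' : Type u) [Field k']
    (t : Spec (CommRingCat.of k') ⟶ S) : ConnectedSpace ↥(pullback G.hom t) := by
  let L := AlgebraicClosure k'
  let c : Spec (CommRingCat.of L) ⟶ Spec (CommRingCat.of k') := Spec.map (CommRingCat.ofHom (algebraMap k' L))
  let q := pullback.fst P'.hom (c ≫ t)
  have h := IsPullback.of_hasPullback P'.hom (c ≫ t)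
  have hirr := GrpNeutral20.isIrreducible_preimage P'
    (fun s => MorphismProperty.pullback_snd (P := @LocallyOfFiniteType) _ _ inferInstance) h
  let v : pullback G.hom (c ≫ t) ⟶ pullback P'.hom (c ≫ t) :=
    pullback.map _ _ _ _ i.left (𝟙 _) (𝟙 _) (by rw [Category.comp_id, Over.w]) (by simp)
  have hv : IsPullback (pullback.fst G.hom (c ≫ t)) v i.left q := by
    refine IsPullback.of_bot ?_ (pullback.lift_fst _ _ _).symm h
    rw [Over.w i, show v ≫ pullback.snd P'.hom (c ≫ t) = pullback.snd G.hom (c ≫ t) from
      (pullback.lift_snd _ _ _).trans (Category.comp_id _)]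
    exact IsPullback.of_hasPullback _ _
  haveI : IsOpenImmersion v := MorphismProperty.of_isPullback hv ‹IsOpenImmersion i.left›
  have hrange : Set.range v = q ⁻¹' SGA3x.neutralSet P' := by
    rw [← hr]
    ext x
    refine ⟨?_, fun ⟨b, hb⟩ => ?_⟩
    · rintro ⟨a, rfl⟩
      exact ⟨pullback.fst G.hom (c ≫ t) a, by rw [← Scheme.Hom.comp_apply, hv.w, Scheme.Hom.comp_apply]⟩
    · obtain ⟨a, -, ha⟩ := Scheme.exists_preimage_of_isPullback hv b x hb
      exact ⟨a, ha⟩
  haveI : ConnectedSpace ↥(pullback G.hom (c ≫ t)) := by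
    rw [connectedSpace_iff_univ]
    have hc : _root_.IsConnected (Set.range v) := hrange ▸ hirr.isConnected
    rw [← Set.image_univ] at hc
    exact ⟨hc.nonempty.of_image, (v.isOpenEmbedding.isInducing.isPreconnected_image).1 hc.isPreconnected⟩
  let r : pullback G.hom (c ≫ t) ⟶ pullback G.hom t := pullback.lift (pullback.fst _ _) (pullback.snd _ _ ≫ c)
    (by rw [Category.assoc]; exact pullback.condition)
  have hr' : IsPullback r (pullback.snd G.hom (c ≫ t)) (pullback.snd G.hom t) c := by
    refine IsPullback.of_right ?_ (pullback.lift_snd _ _ _) (IsPullback.of_hasPullback G.hom t)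
    rw [pullback.lift_fst]
    exact IsPullback.of_hasPullback G.hom (c ≫ t)
  haveI : Surjective c := ⟨fun z => ⟨IsLocalRing.closedPoint L, Subsingleton.elim (α := PrimeSpectrum k') _ _⟩⟩
  haveI : Surjective r := MorphismProperty.of_isPullback hr'.flip ‹Surjective c›
  exact r.surjective.connectedSpace r.continuous

variable {k : Type u} [Field k] [IsAlgClosed k]

/-- A connected commutative smooth algebraic group without additive subgroups and tori is proper. -/
theorem isProper_of_noGa_noSubtorus {C P : Over (Spec (CommRingCat.of k))} [GrpObj C] [GrpObj P] [IsCommMonObj C]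
    [Smooth C.hom] [QuasiCompact C.hom] [ConnectedSpace C.left] (i : C ⟶ P) [IsMonHom i] [Mono i]
    (hGa : ∀ j : Red.Ga (Spec (CommRingCat.of k)) ⟶ C, IsMonHom j → IsClosedImmersion j.left → False)
    (ht : Red.HasNoSubtorus k P) : IsProper C.hom := by
  obtain ⟨T, _, a, A, _, q, ha, hac, hT, hq, hqs, hqf, hker, hAp, hAs, hAc⟩ := isSA_of_noGa hGa
  haveI := ha; haveI := hac; haveI := hq; haveI := hqs; haveI := hqf; haveI := hAp; haveI := hAs
  haveI : Mono a := Over.mono_of_mono_left a
  haveI hTi : IsIso T.hom := ht T (a ≫ i) hT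
  haveI : IsIso η[T] := by
    haveI : IsIso (η[T].left ≫ T.hom) := by
      rw [Over.w η[T]]; exact inferInstanceAs (IsIso (𝟙 _))
    haveI : IsIso ((Over.forget _).map η[T]) := IsIso.of_isIso_comp_right η[T].left T.hom
    exact isIso_of_reflects_iso η[T] (Over.forget _)
  haveI : Mono q := by
    refine ⟨fun {Z} x y hxy => ?_⟩
    have h1 : (x * y⁻¹) ≫ q = 1 := by
      rw [MonObj.mul_comp, GrpObj.inv_comp, hxy, mul_inv_cancel]
    have h2 : (x * y⁻¹) ≫ q = toUnit Z ≫ η[A] := h1.trans Hom.one_def
    obtain ⟨w, hw⟩ : ∃ w : Z ⟶ T, w ≫ a = x * y⁻¹ := ⟨hker.lift _ _ h2, hker.lift_fst _ _ h2⟩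
    have hw1 : w = 1 := by
      rw [Hom.one_def, ← cancel_mono (inv η[T]), Category.assoc, IsIso.hom_inv_id, Category.comp_id]
      exact toUnit_unique _ _
    rw [hw1, MonObj.one_comp] at hw
    exact mul_inv_eq_one.1 hw.symm
  haveI : IsClosedImmersion q.left := Semiab15.isClosedImmersion_of_trivial_kernel q
  rw [← Over.w q]
  infer_instance

variable {R K : Type u} [CommRing R] [IsDomain R] [IsDiscreteValuationRing R] [Field K] [Algebra R K]
  [IsFractionRing R K]

/-- The neutral model is proper when its special fibre has neither additive subgroups nor tori. -/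
theorem isProper_of_model (G P' : Over (Spec (CommRingCat.of R))) [GrpObj G] [GrpObj P'] [IsCommMonObj G]
    [Smooth G.hom] [IsSeparated G.hom] [QuasiCompact G.hom] [Smooth P'.hom] (i : G ⟶ P') [IsMonHom i]
    [IsOpenImmersion i.left] (hr : Set.range i.left = SGA3x.neutralSet P')
    [IsProper ((SGA7.genFib R K).obj G).hom]
    (h0 : SGA7.FibreUnipotentRankZero (IsLocalRing.closedPoint R) G)
    (ht : ∀ (Ω' : Type u) [Field Ω'] [IsAlgClosed Ω'] (φ : R →+* Ω'),
      (∀ r ∈ IsLocalRing.maximalIdeal R, φ r = 0) →
      Red.HasNoSubtorus Ω' (Red.bc (Spec.map (CommRingCat.ofHom φ)) P')) : IsProper G.hom := by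
  let S := Spec (CommRingCat.of R)
  let f := G.hom
  have hg : η[G].left ≫ f = 𝟙 S := Over.w η[G]
  refine ZConn5.isProper_of_section f η[G].left hg (fun y => ?_) (fun y => ?_)
  · haveI : ConnectedSpace ↥(f.fiber y) := connectedSpace_fibre i hr (S.residueField y) (S.fromSpecResidueField y)
    rw [← f.range_fiberι y]
    exact isPreconnected_range (f.fiberι y).continuous
  by_cases hy : (show PrimeSpectrum R from y).asIdeal = ⊥
  · let jK : Spec (CommRingCat.of K) ⟶ S := Spec.map (CommRingCat.ofHom (algebraMap R K))
    have sq : IsPullback (pullback.fst G.hom jK) (pullback.snd G.hom jK) G.hom jK := IsPullback.of_hasPullback _ _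
    haveI : IsProper (pullback.snd G.hom jK) := ‹IsProper ((SGA7.genFib R K).obj G).hom›
    have h := (ZConn5.isProper_fibre_iff sq (IsLocalRing.closedPoint K)).1 (ZConn5.isProper_fibre_of_isProper _ _)
    have e : jK (IsLocalRing.closedPoint K) = y := PrimeSpectrum.ext (by
      show Ideal.comap (algebraMap R K) (IsLocalRing.maximalIdeal K) = (show PrimeSpectrum R from y).asIdeal
      rw [IsLocalRing.maximalIdeal_eq_bot, hy]
      exact Ideal.comap_bot_of_injective _ (IsFractionRing.injective R K))
    rwa [e] at h
  · have : y = IsLocalRing.closedPoint R := PrimeSpectrum.ext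
      (IsLocalRing.eq_maximalIdeal (Ring.DimensionLEOne.maximalOfPrime hy (show PrimeSpectrum R from y).isPrime))
    subst this
    let s : S := IsLocalRing.closedPoint R
    let Ω := AlgebraicClosure (S.residueField s)
    let b : Spec (CommRingCat.of Ω) ⟶ S := Red.geomPt s
    obtain ⟨ψ, hψ⟩ := Spec.map_surjective b
    have hm : ∀ r ∈ IsLocalRing.maximalIdeal R, ψ.hom r = 0 := fun r hr' => by
      have e1 : b (IsLocalRing.closedPoint Ω) = s := by
        show (Spec.map _ ≫ S.fromSpecResidueField s) _ = s
        rw [Scheme.Hom.comp_apply]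
        exact S.fromSpecResidueField_apply s _
      rw [← hψ] at e1
      have e2 : Ideal.comap ψ.hom (IsLocalRing.maximalIdeal Ω) = IsLocalRing.maximalIdeal R :=
        congrArg PrimeSpectrum.asIdeal e1
      rw [IsLocalRing.maximalIdeal_eq_bot] at e2
      rw [← e2] at hr'
      simpa using hr'
    have hP := ht Ω ψ.hom hm
    rw [show CommRingCat.ofHom ψ.hom = ψ from rfl, hψ] at hP
    let C := Red.bc b G
    haveI : IsCommMonObj C := inferInstanceAs (IsCommMonObj ((Over.pullback b).obj G))
    haveI : Smooth C.hom := inferInstanceAs (Smooth (pullback.snd G.hom b))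
    haveI : QuasiCompact C.hom := inferInstanceAs (QuasiCompact (pullback.snd G.hom b))
    haveI : ConnectedSpace C.left := connectedSpace_fibre i hr Ω b
    let v : C ⟶ Red.bc b P' := (Over.pullback b).map i
    haveI : IsOpenImmersion v.left := MorphismProperty.of_isPullback (isPullback_map b i) ‹IsOpenImmersion i.left›
    haveI : Mono v := Over.mono_of_mono_left v
    haveI : IsProper (pullback.snd G.hom b) := isProper_of_noGa_noSubtorus v h0 hP
    have h := (ZConn5.isProper_fibre_iff (IsPullback.of_hasPullback G.hom b) (IsLocalRing.closedPoint Ω)).1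
      (ZConn5.isProper_fibre_of_isProper _ _)
    have e : b (IsLocalRing.closedPoint Ω) = s := by
      show (Spec.map _ ≫ S.fromSpecResidueField s) _ = s
      rw [Scheme.Hom.comp_apply]
      exact S.fromSpecResidueField_apply s _
    rwa [e] at h

end Groth.Agent.SemiNhd19
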