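import Groth.Agent.Lib.SemiNhd19.Nhd

/-!
# Main theorem on neighbourhoods of isogenies
-/

set_option autoImplicit false
set_option linter.style.haveILetI false
set_option linter.unusedSectionVars false
set_option backward.isDefEq.respectTransparency false
universe u

open CategoryTheory CategoryTheory.Limits MonoidalCategory CartesianMonoidalCategory MonObj GrpObj AlgebraicGeometry

noncomputable section

namespace Groth.Agent.SemiNhd19

variable {S : Scheme.{u}} {G H : Over S} [GrpObj G] [GrpObj H] (u : G ⟶ H) [IsMonHom u]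

/-- Torsion-freeness of the kernel can be tested on an open subscheme. -/
theorem noTorAt_of_open (W : S.Opens) {l : ℕ} {x : W.toScheme}
    (h : NoTorAt ((Over.pullback W.ι).map u) l x) : NoTorAt u l (W.ι x) := by
  intro L _ g y hg hy hyu
  have hr : Set.range g ⊆ Set.range W.ι := by
    rintro _ ⟨p, rfl⟩
    rw [Subsingleton.elim (α := PrimeSpectrum L) p (IsLocalRing.closedPoint L), hg]
    exact ⟨x, rfl⟩
  let c := IsOpenImmersion.lift W.ι g hr
  have hc : c ≫ W.ι = g := IsOpenImmersion.lift_fac _ _ _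
  let e : (Over.map W.ι).obj (Over.mk c) ⟶ Over.mk g := Over.homMk (𝟙 _) (by
    show 𝟙 _ ≫ g = c ≫ W.ι
    rw [hc, Category.id_comp])
  obtain ⟨z, hz⟩ := DiagGL.fl_surjective W.ι G (e ≫ y)
  have hz1 : z = 1 := by
    refine h L c z ?_ ?_ ?_
    · refine W.ι.isOpenEmbedding.injective ?_
      rw [← Scheme.Hom.comp_apply, hc, hg]
    · exact DiagGL.fl_injective W.ι G (by
        rw [fl_pow', hz, ← MonObj.comp_pow, hy, MonObj.comp_one, MTRigid29.fl_one])
    · exact DiagGL.fl_injective W.ι H (by
        rw [MTRigid29.fl_map, hz, Category.assoc, hyu, MonObj.comp_one, MTRigid29.fl_one])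
  have h1 : e ≫ y = 1 := by rw [← hz, hz1, MTRigid29.fl_one]
  haveI : IsIso e.left := inferInstanceAs (IsIso (𝟙 _))
  haveI : IsIso ((Over.forget S).map e) := ‹IsIso e.left›
  haveI : IsIso e := isIso_of_reflects_iso e (Over.forget S)
  rw [← cancel_epi e, h1, MonObj.comp_one]

variable [IsCommMonObj G] [Flat G.hom] [IsSeparated G.hom] [LocallyOfFinitePresentation G.hom] [QuasiCompact G.hom]
  [Smooth H.hom] [QuasiSeparated H.hom]

/-- An isogeny on the generic point is quasi-finite on the special fibre. -/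
theorem fibreDimAt_le {s t : S} (hts : t ⤳ s) (hs : SGA7.FibreUnipotentRankZero s G)
    (hiso : SGA7.IsIsogenyOver (SGA7.fibreHom t u)) :
    FlatMor.fibreDimAt u.left (η[G].left s) ≤ ((0 : ℕ) : WithBot ℕ∞) := by
  haveI : LocallyOfFiniteType (u.left ≫ H.hom) := by rw [Over.w]; infer_instance
  haveI : LocallyOfFiniteType u.left := locallyOfFiniteType_of_comp u.left H.hom
  obtain ⟨d, hd⟩ := exists_bound u hiso
  obtain ⟨l, hl, hdl, hls⟩ := exists_prime s d
  let W : S.Opens := S.basicOpen (l : Γ(S, ⊤))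
  have hsW : s ∈ W := by
    rw [Scheme.mem_basicOpen_top]
    by_contra hne
    refine hls ?_
    have h1 : IsLocalRing.residue _ (S.presheaf.Γgerm s (l : Γ(S, ⊤))) = 0 :=
      (IsLocalRing.residue_eq_zero_iff _).2 ((IsLocalRing.mem_maximalIdeal _).2 hne)
    rw [map_natCast, map_natCast] at h1
    exact h1
  have htW : t ∈ W := hts.mem_open W.2 hsW
  let F := Over.pullback W.ι
  haveI : Flat (F.obj G).hom := inferInstanceAs (Flat (pullback.snd G.hom W.ι))
  haveI : IsSeparated (F.obj G).hom := inferInstanceAs (IsSeparated (pullback.snd G.hom W.ι))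
  haveI : LocallyOfFinitePresentation (F.obj G).hom :=
    inferInstanceAs (LocallyOfFinitePresentation (pullback.snd G.hom W.ι))
  haveI : QuasiCompact (F.obj G).hom := inferInstanceAs (QuasiCompact (pullback.snd G.hom W.ι))
  haveI : LocallyOfFiniteType (F.obj H).hom := inferInstanceAs (LocallyOfFiniteType (pullback.snd H.hom W.ι))
  have hlW : IsUnit (l : Γ(W.toScheme, ⊤)) := by
    have h0 : IsUnit (S.presheaf.map (homOfLE (le_top : W ≤ ⊤)).op (l : Γ(S, ⊤))) :=
      AlgebraicGeometry.RingedSpace.isUnit_res_basicOpen _ _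
    rw [map_natCast] at h0
    have h1 := h0.map W.topIso.inv.hom
    rwa [map_natCast] at h1
  have hts' : (⟨t, htW⟩ : W.toScheme) ⤳ ⟨s, hsW⟩ := W.ι.isOpenEmbedding.isInducing.specializes_iff.1 hts
  have h0 : NoTorAt ((Over.pullback W.ι).map u) l (⟨t, htW⟩ : W.toScheme) := fun L _ c z hc hz hzu =>
    point_eq_one u (hd l hl hdl) W.ι c (by rw [hc]; rfl) z hz hzu
  have hT : NoTorAt u l s := noTorAt_of_open u W (x := ⟨s, hsW⟩)
    (noTorAt_of_specializes ((Over.pullback W.ι).map u) hts' hlW h0)
  haveI := locallyQuasiFinite_geomFibre u hs hl hls hT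
  have h := fibreDimAt_unit u (Red.geomPt s)
  rw [show Red.geomPt s (IsLocalRing.closedPoint (AlgebraicClosure (S.residueField s))) = s by
    show (Spec.map _ ≫ S.fromSpecResidueField s) _ = s
    rw [Scheme.Hom.comp_apply]
    exact Scheme.fromSpecResidueField_apply _ _] at h
  haveI : LocallyOfFiniteType ((Over.pullback (Red.geomPt s)).map u).left :=
    MorphismProperty.of_isPullback (isPullback_map (Red.geomPt s) u) ‹LocallyOfFiniteType u.left›
  rw [← h, FibDim14.fibreDimAt_eq_zero]
  rfl

/-- An isogeny on the generic point is flat and quasi-finite near specialisations without additive subgroups. -/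
theorem exists_nhd {s t : S} (hts : t ⤳ s) (hs : SGA7.FibreUnipotentRankZero s G)
    (hiso : SGA7.IsIsogenyOver (SGA7.fibreHom t u)) :
    ∃ U : S.Opens, s ∈ U ∧ Flat ((Over.pullback U.ι).map u).left ∧
      LocallyQuasiFinite ((Over.pullback U.ι).map u).left := by
  haveI : LocallyOfFiniteType (u.left ≫ H.hom) := by rw [Over.w]; infer_instance
  haveI : LocallyOfFiniteType u.left := locallyOfFiniteType_of_comp u.left H.hom
  obtain ⟨U₁, hs₁, h₁⟩ := exists_nhd_dim_eq G s
  obtain ⟨U₂, hs₂, h₂⟩ := exists_nhd_dim_eq H s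
  let φ := S.fromSpecResidueField t
  let A := Red.bc φ G
  let B := Red.bc φ H
  let f : A ⟶ B := SGA7.fibreHom t u
  haveI : Surjective f.left := hiso.1
  haveI : LocallyOfFiniteType A.hom := inferInstanceAs (LocallyOfFiniteType (pullback.snd G.hom φ))
  haveI : LocallyOfFiniteType B.hom := inferInstanceAs (LocallyOfFiniteType (pullback.snd H.hom φ))
  haveI : QuasiCompact A.hom := inferInstanceAs (QuasiCompact (pullback.snd G.hom φ))
  haveI : QuasiCompact f.left := Semiab15.qc_left (k := S.residueField t) f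
  let N := pullback f η[B]
  let i : N ⟶ A := pullback.fst f η[B]
  have hN : AlgGrp.IsKernel i f := by
    show IsPullback i (toUnit _) f η[B]
    rw [toUnit_unique (toUnit _) (pullback.snd f η[B])]
    exact IsPullback.of_hasPullback f η[B]
  haveI : IsFinite N.hom := hiso.2 N i hN
  have hdim := NeronIsog19.dim_eq_of_surjective A B N f i hN
  have hpt : φ (IsLocalRing.closedPoint (S.residueField t)) = t := Scheme.fromSpecResidueField_apply t _
  have hGt := NeronIsog19.dim_pullback_field (K := S.residueField t) G φ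
  have hHt := NeronIsog19.dim_pullback_field (K := S.residueField t) H φ
  have hdt : topologicalKrullDim ↥(G.hom ⁻¹' {t}) = topologicalKrullDim ↥(H.hom ⁻¹' {t}) := by
    have h := hGt.symm.trans (hdim.trans hHt)
    exact (congrArg (fun z => topologicalKrullDim ↥(G.hom ⁻¹' {z})) hpt).symm.trans
      (h.trans (congrArg (fun z => topologicalKrullDim ↥(H.hom ⁻¹' {z})) hpt))
  let O : S.Opens := ⟨η[G].left ⁻¹' {x | FlatMor.fibreDimAt u.left x ≤ ((0 : ℕ) : WithBot ℕ∞)},
    (FibDim14.isOpen_fibreDimAt_le u.left 0).preimage η[G].left.continuous⟩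
  refine ⟨U₁ ⊓ U₂ ⊓ O, ⟨⟨hs₁, hs₂⟩, fibreDimAt_le u hts hs hiso⟩, ?_⟩
  refine flat_lqf_restrict u _ fun y hy => ⟨hy.2, ?_⟩
  rw [h₁ y hy.1.1, h₂ y hy.1.2, ← h₁ t (hts.mem_open U₁.2 hs₁), ← h₂ t (hts.mem_open U₂.2 hs₂), hdt]

end Groth.Agent.SemiNhd19
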