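import Groth.Agent.Lib.SemiNhd19.Open
import Groth.Agent.Lib.NeronIsog19.Kernel

/-!
# Open immersions into Néron models
-/

set_option autoImplicit false
set_option linter.style.haveILetI false
set_option linter.unusedSectionVars false
set_option backward.isDefEq.respectTransparency false
universe u

open CategoryTheory CategoryTheory.Limits MonoidalCategory CartesianMonoidalCategory MonObj GrpObj AlgebraicGeometry

noncomputable section

namespace Groth.Agent.SemiNhd19

variable {R K : Type u} [CommRing R] [IsDomain R] [Field K] [Algebra R K] [IsFractionRing R K]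

theorem isDominant_genMap : IsSchemeTheoreticallyDominant (Spec.map (CommRingCat.ofHom (algebraMap R K))) := by
  have h : Function.Injective (algebraMap R K) := IsFractionRing.injective R K
  haveI : IsDominant (Spec.map (CommRingCat.ofHom (algebraMap R K))) :=
    ⟨PrimeSpectrum.denseRange_comap_iff_ker_le_nilRadical _ |>.2 (by
      rw [CommRingCat.hom_ofHom, show RingHom.ker (algebraMap R K) = ⊥ from (RingHom.injective_iff_ker_eq_bot _).1 h]; exact bot_le)⟩
  exact IsSchemeTheoreticallyDominant.of_isDominant _

/-- A flat separated group whose generic fibre is commutative is commutative. -/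
theorem isCommMonObj_genFib (G : Over (Spec (CommRingCat.of R))) [GrpObj G] [Flat G.hom] [IsSeparated G.hom]
    [IsCommMonObj ((SGA7.genFib R K).obj G)] : IsCommMonObj G := by
  haveI : Flat (G ⊗ G).hom := inferInstanceAs (Flat (pullback.fst G.hom G.hom ≫ G.hom))
  let j := Spec.map (CommRingCat.ofHom (algebraMap R K))
  have h : fst G G * snd G G = snd G G * fst G G := by
    haveI := isDominant_genMap (R := R) (K := K)
    haveI : IsSchemeTheoreticallyDominant (pullback.fst (G ⊗ G).hom j) := inferInstance
    have hmap : (SGA7.genFib R K).map (fst G G * snd G G) = (SGA7.genFib R K).map (snd G G * fst G G) := by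
      rw [Functor.map_mul, Functor.map_mul, mul_comm]
    ext1
    refine AbRigid.eq_of_comp_eq_of_ker_eq_bot (pullback.fst (G ⊗ G).hom j)
      (Scheme.Hom.ker_eq_bot _) G.hom _ _ ((Over.w (fst G G * snd G G)).trans (Over.w (snd G G * fst G G)).symm) ?_
    have e : ∀ f : G ⊗ G ⟶ G, pullback.fst (G ⊗ G).hom j ≫ f.left =
        ((SGA7.genFib R K).map f).left ≫ pullback.fst G.hom j := fun f => (isPullback_map j f).w
    rw [e, e, hmap]
  constructor
  rw [show μ[G] = fst G G * snd G G by rw [Hom.mul_def, lift_fst_snd, Category.id_comp]]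
  rw [MonObj.comp_mul, CartesianMonoidalCategory.braiding_hom_fst, CartesianMonoidalCategory.braiding_hom_snd]
  exact h.symm

theorem exists_extension {L : Type u} [Field L] (f : R →+* L) (hf : Function.Injective f) :
    ∃ χ : K →+* L, χ.comp (algebraMap R K) = f :=
  ⟨IsFractionRing.lift hf, RingHom.ext fun a => IsFractionRing.lift_algebraMap hf a⟩

/-- A homomorphism from a commutative group with isomorphic generic fibre is an open immersion. -/
theorem isOpenImmersion_of_comm (N : Over (Spec (CommRingCat.of R))) [GrpObj N] [Smooth N.hom] [IsSeparated N.hom]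
    (G : Over (Spec (CommRingCat.of R))) [GrpObj G] [IsCommMonObj G] [Smooth G.hom] [IsSeparated G.hom]
    [QuasiCompact G.hom] (hG : SGA7.FibresUnipotentRankZero G) (u : G ⟶ N) [IsMonHom u]
    [IsIso ((SGA7.genFib R K).map u)] : IsOpenImmersion u.left := by
  let t : Spec (CommRingCat.of R) := (⟨⊥, Ideal.isPrime_bot⟩ : PrimeSpectrum R)
  have ht : ∀ x : Spec (CommRingCat.of R), t ⤳ x := fun x => (PrimeSpectrum.le_iff_specializes _ _).1 bot_le
  let S := Spec (CommRingCat.of R)
  let j := Spec.map (CommRingCat.ofHom (algebraMap R K))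
  obtain ⟨φ, hφ⟩ : ∃ φ : CommRingCat.of R ⟶ S.residueField t, Spec.map φ = S.fromSpecResidueField t :=
    ⟨_, Spec.map_preimage _⟩
  have hinj : Function.Injective φ.hom := by
    rw [RingHom.injective_iff_ker_eq_bot]
    have h : Spec.map φ (IsLocalRing.closedPoint (S.residueField t)) = t :=
      (congrArg (fun f : Spec (S.residueField t) ⟶ S => f (IsLocalRing.closedPoint (S.residueField t))) hφ).trans
        (Scheme.fromSpecResidueField_apply t _)
    refine (Eq.trans ?_ (congrArg (fun q : PrimeSpectrum R => q.asIdeal) h))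
    ext a
    show φ.hom a = 0 ↔ φ.hom a ∈ (IsLocalRing.closedPoint (S.residueField t)).asIdeal
    refine Iff.trans ?_ (Iff.of_eq (congrArg (φ.hom a ∈ ·) IsLocalRing.maximalIdeal_eq_bot.symm))
    exact Ideal.mem_bot.symm
  obtain ⟨χ, hχ⟩ := exists_extension (K := K) φ.hom hinj
  let ψ : Spec (S.residueField t) ⟶ Spec (CommRingCat.of K) := Spec.map (CommRingCat.ofHom χ)
  have hψ : ψ ≫ j = S.fromSpecResidueField t := by
    rw [← hφ, ← Spec.map_comp]
    exact congrArg Spec.map (CommRingCat.hom_ext hχ)
  haveI : IsIso ((SGA7.genFib R K).map u).left :=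
    inferInstanceAs (IsIso ((Over.forget _).map ((SGA7.genFib R K).map u)))
  have hj : MorphismProperty.isomorphisms Scheme.{u} ((Over.pullback j).map u).left :=
    (MorphismProperty.isomorphisms.iff _).2 ‹IsIso ((SGA7.genFib R K).map u).left›
  have hft := of_factor (MorphismProperty.isomorphisms Scheme.{u}) u j ψ (S.fromSpecResidueField t) hψ hj
  haveI hti : IsIso (SGA7.fibreHom t u).left := (MorphismProperty.isomorphisms.iff _).1 hft
  haveI : IsIso ((Over.forget _).map (SGA7.fibreHom t u)) := hti
  haveI : IsIso (SGA7.fibreHom t u) := isIso_of_reflects_iso _ (Over.forget _)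
  have hiso : SGA7.IsIsogenyOver (SGA7.fibreHom t u) := by
    refine ⟨inferInstance, fun M i hi => ?_⟩
    have h : IsIso (toUnit M) := hi.isIso_snd_of_isIso
    haveI : IsIso (toUnit M).left := inferInstanceAs (IsIso ((Over.forget _).map (toUnit M)))
    rw [← Over.w (toUnit M)]
    haveI : IsIso (𝟙_ (Over (Spec (S.residueField t)))).hom := inferInstanceAs (IsIso (𝟙 _))
    infer_instance
  choose U hsU hU using fun s : S => exists_nhd_isOpenImmersion u ht s (hG s) hiso
  refine (IsZariskiLocalAtTarget.iff_of_iSup_eq_top (P := @IsOpenImmersion)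
    (U := fun s : S => N.hom ⁻¹ᵁ U s) ?_).2 fun s => ?_
  · ext x
    simp only [TopologicalSpace.Opens.mem_iSup, TopologicalSpace.Opens.coe_top, Set.mem_univ, iff_true, SetLike.mem_coe]
    exact ⟨N.hom x, hsU _⟩
  · have hs : IsOpenImmersion (pullback.snd u.left (pullback.fst N.hom (U s).ι)) := by
      rw [← (isPullback_map (U s).ι u).isoPullback_inv_snd]
      haveI := hU s
      infer_instance
    have hr : (pullback.fst N.hom (U s).ι).opensRange = N.hom ⁻¹ᵁ U s := by
      apply TopologicalSpace.Opens.ext
      show Set.range (pullback.fst N.hom (U s).ι) = _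
      rw [Scheme.Pullback.range_fst]
      simp
    rw [← hr]
    exact (MorphismProperty.arrow_mk_iso_iff @IsOpenImmersion
      (morphismRestrictOpensRange u.left (pullback.fst N.hom (U s).ι))).2 hs

/-- A homomorphism to a smooth separated group with isomorphic abelian generic fibre is an open immersion. -/
theorem isOpenImmersion_of_genFib (N : Over (Spec (CommRingCat.of R))) [GrpObj N] [Smooth N.hom] [IsSeparated N.hom]
    [IsProper ((SGA7.genFib R K).obj N).hom] [GeometricallyIntegral ((SGA7.genFib R K).obj N).hom]
    (G : Over (Spec (CommRingCat.of R))) [GrpObj G] [Smooth G.hom] [IsSeparated G.hom] [QuasiCompact G.hom]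
    (hG : SGA7.FibresUnipotentRankZero G) (u : G ⟶ N) [IsMonHom u] [IsIso ((SGA7.genFib R K).map u)] :
    IsOpenImmersion u.left := by
  haveI : IsCommMonObj ((SGA7.genFib R K).obj N) :=
    AlgebraicGeometry.isCommMonObj_of_isProper_of_geometricallyIntegral _
  haveI : IsCommMonObj ((SGA7.genFib R K).obj G) := AbelGrp20.isCommMonObj_of_mono ((SGA7.genFib R K).map u)
  haveI := isCommMonObj_genFib (K := K) G
  exact isOpenImmersion_of_comm (K := K) N G hG u

end Groth.Agent.SemiNhd19
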