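import Groth.Agent.Lib.SemiNhd19.Main
import Groth.Agent.Lib.QfRankOne.Basic

/-!
# Open immersions near specialisations of a monomorphic isogeny
-/

set_option autoImplicit false
set_option linter.style.haveILetI false
set_option linter.unusedSectionVars false
set_option backward.isDefEq.respectTransparency false
universe u

open CategoryTheory CategoryTheory.Limits MonoidalCategory CartesianMonoidalCategory MonObj GrpObj AlgebraicGeometry

noncomputable section

namespace Groth.Agent.SemiNhd19

variable {S : Scheme.{u}}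

/-- Properties of base changed maps pass to further base changes. -/
theorem of_factor (P : MorphismProperty Scheme.{u}) [P.IsStableUnderBaseChange] {G H : Over S} (u : G ⟶ H)
    {S' S'' : Scheme.{u}} (χ : S' ⟶ S) (ψ : S'' ⟶ S') (φ : S'' ⟶ S) (h : ψ ≫ χ = φ)
    (hP : P ((Over.pullback χ).map u).left) : P ((Over.pullback φ).map u).left := by
  subst h
  let a : ((Over.pullback (ψ ≫ χ)).obj G).left ⟶ ((Over.pullback χ).obj G).left :=
    pullback.map G.hom (ψ ≫ χ) G.hom χ (𝟙 _) ψ (𝟙 _) (by simp) (by simp)
  let b : ((Over.pullback (ψ ≫ χ)).obj H).left ⟶ ((Over.pullback χ).obj H).left :=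
    pullback.map H.hom (ψ ≫ χ) H.hom χ (𝟙 _) ψ (𝟙 _) (by simp) (by simp)
  have ha : a ≫ pullback.fst G.hom χ = pullback.fst G.hom (ψ ≫ χ) :=
    (pullback.lift_fst _ _ _).trans (Category.comp_id _)
  have hb : b ≫ pullback.fst H.hom χ = pullback.fst H.hom (ψ ≫ χ) :=
    (pullback.lift_fst _ _ _).trans (Category.comp_id _)
  have hw : a ≫ ((Over.pullback χ).map u).left = ((Over.pullback (ψ ≫ χ)).map u).left ≫ b := by
    apply pullback.hom_ext
    · rw [Category.assoc, Category.assoc, ← (isPullback_map χ u).w, reassoc_of% ha, hb,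
        ← (isPullback_map (ψ ≫ χ) u).w]
    · simp [a, b]
  have sq : IsPullback a ((Over.pullback (ψ ≫ χ)).map u).left ((Over.pullback χ).map u).left b := by
    refine IsPullback.of_right ?_ hw (isPullback_map χ u)
    rw [ha, hb]
    exact isPullback_map (ψ ≫ χ) u
  exact P.of_isPullback sq hP

variable {G H : Over S} [GrpObj G] [IsCommMonObj G] [Flat G.hom] [IsSeparated G.hom]
  [LocallyOfFinitePresentation G.hom] [QuasiCompact G.hom] [GrpObj H] [Smooth H.hom] [QuasiSeparated H.hom]
  (u : G ⟶ H) [IsMonHom u]

/-- Fibres over field valued points of the generic fibre. -/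
theorem isOpenImmersion_fieldPoint {t : S} (hT : IsOpenImmersion (SGA7.fibreHom t u).left) {L : Type u} [Field L]
    (c : Spec (CommRingCat.of L) ⟶ H.left) (hc : (c ≫ H.hom) (IsLocalRing.closedPoint L) = t) :
    IsOpenImmersion (pullback.snd u.left c) := by
  obtain ⟨a, ha⟩ : ∃ a : Spec (CommRingCat.of L) ⟶ Spec (S.residueField t),
      a ≫ S.fromSpecResidueField t = c ≫ H.hom := by
    subst hc
    exact ⟨_, Scheme.descResidueField_stalkClosedPointTo_fromSpecResidueField _ S (c ≫ H.hom)⟩
  let T := SGA7.fibreHom t u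
  let l : Spec (CommRingCat.of L) ⟶ (Red.bc (S.fromSpecResidueField _) H).left := pullback.lift c a ha.symm
  have sq : IsPullback (pullback.lift (pullback.fst u.left c) (pullback.snd u.left c ≫ a) (by
        rw [Category.assoc, ha, ← pullback.condition_assoc, Over.w u]))
      (pullback.snd u.left c) T.left l := by
    refine IsPullback.of_right ?_ ?_ (isPullback_map (S.fromSpecResidueField _) u)
    · rw [pullback.lift_fst, pullback.lift_fst]
      exact IsPullback.of_hasPullback u.left c
    · refine pullback.hom_ext ?_ ?_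
      · refine ((Category.assoc _ _ _).trans ?_).trans (Category.assoc _ _ _).symm
        refine ((congrArg (_ ≫ ·) (isPullback_map (S.fromSpecResidueField t) u).w.symm).trans ?_).trans
          (congrArg (_ ≫ ·) (pullback.lift_fst _ _ _)).symm
        exact (Category.assoc _ _ _).symm.trans ((congrArg (· ≫ u.left) (pullback.lift_fst _ _ _)).trans pullback.condition)
      · refine ((Category.assoc _ _ _).trans ?_).trans (Category.assoc _ _ _).symm
        refine ((congrArg (_ ≫ ·) (Over.w T)).trans ?_).trans (congrArg (_ ≫ ·) (pullback.lift_snd _ _ _)).symm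
        exact pullback.lift_snd _ _ _
  exact MorphismProperty.of_isPullback sq hT

/-- A flat quasi-finite base change with monomorphic fibres over the maximal points is an open immersion. -/
theorem isOpenImmersion_bc {t : S} [Mono (SGA7.fibreHom t u)] {S' : Scheme.{u}} (φ : S' ⟶ S)
    (hf : Flat ((Over.pullback φ).map u).left) (hq : LocallyQuasiFinite ((Over.pullback φ).map u).left)
    (hft : Flat (SGA7.fibreHom t u).left)
    (hmax : ∀ x : S', (∀ y : S', y ⤳ x → y = x) → φ x = t) :
    IsOpenImmersion ((Over.pullback φ).map u).left := by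
  haveI := hf; haveI := hq; haveI := hft
  let A := (Over.pullback φ).obj G
  let B := (Over.pullback φ).obj H
  let g : A.left ⟶ B.left := ((Over.pullback φ).map u).left
  have hgw : g ≫ B.hom = A.hom := Over.w _
  haveI : LocallyOfFinitePresentation A.hom := inferInstanceAs (LocallyOfFinitePresentation (pullback.snd G.hom φ))
  haveI : QuasiCompact A.hom := inferInstanceAs (QuasiCompact (pullback.snd G.hom φ))
  haveI : IsSeparated A.hom := inferInstanceAs (IsSeparated (pullback.snd G.hom φ))
  haveI : Smooth B.hom := inferInstanceAs (Smooth (pullback.snd H.hom φ))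
  haveI : QuasiSeparated B.hom := inferInstanceAs (QuasiSeparated (pullback.snd H.hom φ))
  haveI : LocallyOfFinitePresentation (g ≫ B.hom) := by rw [hgw]; infer_instance
  haveI : LocallyOfFinitePresentation g := SchBasic.locallyOfFinitePresentation_of_comp g B.hom
  haveI : QuasiCompact (g ≫ B.hom) := by rw [hgw]; infer_instance
  haveI : QuasiCompact g := QuasiCompact.of_comp g B.hom
  haveI : IsSeparated (g ≫ B.hom) := by rw [hgw]; infer_instance
  haveI : IsSeparated g := IsSeparated.of_comp g B.hom
  -- the map on the generic fibre is an open immersion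
  let T := SGA7.fibreHom t u
  haveI : Mono T.left := Over.mono_left_of_mono T
  haveI : LocallyOfFinitePresentation T.left := by
    haveI : LocallyOfFinitePresentation (T.left ≫ (Red.bc (S.fromSpecResidueField t) H).hom) := by
      rw [Over.w]; exact inferInstanceAs (LocallyOfFinitePresentation (pullback.snd G.hom _))
    haveI : LocallyOfFiniteType (Red.bc (S.fromSpecResidueField t) H).hom :=
      inferInstanceAs (LocallyOfFiniteType (pullback.snd H.hom _))
    exact SchBasic.locallyOfFinitePresentation_of_comp T.left (Red.bc (S.fromSpecResidueField t) H).hom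
  haveI hT : IsOpenImmersion T.left := IsOpenImmersion.of_flat_of_mono _
  refine QfRankOne.isOpenImmersion g fun p hp => ?_
  have hgen : φ (B.hom p) = t := hmax _ fun y hy => by
    obtain ⟨q, hq, rfl⟩ := Flat.generalizingMap B.hom (a := p) hy
    rw [hp q hq]
  let c := B.left.fromSpecResidueField p ≫ pullback.fst H.hom φ
  have hcs : (c ≫ H.hom) (IsLocalRing.closedPoint (B.left.residueField p)) = t := by
    show ((B.left.fromSpecResidueField p ≫ pullback.fst H.hom φ) ≫ H.hom) _ = t
    rw [Category.assoc, pullback.condition, Scheme.Hom.comp_apply, Scheme.Hom.comp_apply]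
    exact (congrArg (fun z => φ (B.hom z)) (Scheme.fromSpecResidueField_apply p _)).trans hgen
  have h1 := IsPullback.of_hasPullback g (B.left.fromSpecResidueField p)
  have h2 := (h1.flip.paste_vert (isPullback_map φ u).flip).flip
  have h3 := isOpenImmersion_fieldPoint u hT (L := B.left.residueField p) c hcs
  haveI : IsOpenImmersion (pullback.snd g (B.left.fromSpecResidueField p)) := by
    rw [← h2.isoPullback_hom_snd]; infer_instance
  by_cases he : IsEmpty ↑(pullback g (B.left.fromSpecResidueField p))
  · exact Or.inl he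
  · rw [not_isEmpty_iff] at he
    obtain ⟨z⟩ := he
    haveI : Surjective (pullback.snd g (B.left.fromSpecResidueField p)) :=
      ⟨fun y => ⟨z, Subsingleton.elim (α := PrimeSpectrum (B.left.residueField p)) _ _⟩⟩
    exact Or.inr ((isIso_iff_isOpenImmersion_and_surjective _).2 ⟨inferInstance, inferInstance⟩)

/-- The fibre map at a point of an open where `u` is flat is flat. -/
theorem flat_fibreHom (U : S.Opens) (hf : Flat ((Over.pullback U.ι).map u).left) {t : S} (ht : t ∈ U) :
    Flat (SGA7.fibreHom t u).left := by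
  have hr : Set.range (S.fromSpecResidueField t) ⊆ Set.range U.ι := by
    rw [Scheme.range_fromSpecResidueField, Scheme.Opens.range_ι]
    simpa using ht
  exact of_factor @Flat u U.ι (IsOpenImmersion.lift U.ι _ hr) _ (IsOpenImmersion.lift_fac _ _ _) hf

/-- A monomorphic isogeny of the generic point of an irreducible base is an open immersion near `s`. -/
theorem exists_nhd_isOpenImmersion {t : S} (ht : ∀ x : S, t ⤳ x) (s : S) (hs : SGA7.FibreUnipotentRankZero s G)
    (hiso : SGA7.IsIsogenyOver (SGA7.fibreHom t u)) [Mono (SGA7.fibreHom t u)] :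
    ∃ U : S.Opens, s ∈ U ∧ IsOpenImmersion ((Over.pullback U.ι).map u).left := by
  obtain ⟨U, hsU, hf, hq⟩ := exists_nhd u (ht s) hs hiso
  have htU : t ∈ U := (ht s).mem_open U.2 hsU
  refine ⟨U, hsU, isOpenImmersion_bc u U.ι hf hq (flat_fibreHom u U hf htU) fun x hx => ?_⟩
  have h : (⟨t, htU⟩ : U.toScheme) ⤳ x := U.ι.isOpenEmbedding.isInducing.specializes_iff.1 (ht (U.ι x))
  rw [← hx _ h]
  rfl

/-- The special fibre map of a monomorphic isogeny is an open immersion. -/
theorem fibre_isOpenImmersion {s t : S} (hts : t ⤳ s) (hs : SGA7.FibreUnipotentRankZero s G)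
    (hiso : SGA7.IsIsogenyOver (SGA7.fibreHom t u)) [Mono (SGA7.fibreHom t u)] :
    IsOpenImmersion (SGA7.fibreHom s u).left := by
  obtain ⟨U, hsU, hf, hq⟩ := exists_nhd u hts hs hiso
  have htU : t ∈ U := hts.mem_open U.2 hsU
  obtain ⟨q, hq'⟩ : t ∈ Set.range (S.fromSpecStalk s) := by rw [Scheme.range_fromSpecStalk]; exact hts
  let O := S.presheaf.stalk s
  let P : Ideal O := (show PrimeSpectrum O from q).asIdeal
  haveI : P.IsPrime := (show PrimeSpectrum O from q).isPrime
  let D := CommRingCat.of (O ⧸ P)
  let j : Spec D ⟶ Spec O := Spec.map (CommRingCat.ofHom (Ideal.Quotient.mk P))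
  let φ : Spec D ⟶ S := j ≫ S.fromSpecStalk s
  have hrU : Set.range φ ⊆ Set.range U.ι := by
    rintro _ ⟨z, rfl⟩
    rw [Scheme.Opens.range_ι]
    have : φ z ∈ Set.range (S.fromSpecStalk s) := ⟨j z, rfl⟩
    rw [Scheme.range_fromSpecStalk] at this
    exact this.mem_open U.2 hsU
  have hφ := IsOpenImmersion.lift_fac U.ι φ hrU
  have hD : IsOpenImmersion ((Over.pullback φ).map u).left := by
    refine isOpenImmersion_bc u φ (of_factor @Flat u U.ι _ φ hφ hf) (of_factor @LocallyQuasiFinite u U.ι _ φ hφ hq)
      (flat_fibreHom u U hf htU) fun x hx => ?_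
    let b : Spec D := (⟨⊥, Ideal.isPrime_bot⟩ : PrimeSpectrum (O ⧸ P))
    have hb : b ⤳ x := (PrimeSpectrum.le_iff_specializes _ _).1 bot_le
    rw [← hx b hb, ← hq']
    show S.fromSpecStalk s (j b) = _
    refine congrArg _ (PrimeSpectrum.ext ?_)
    show Ideal.comap (Ideal.Quotient.mk P) ⊥ = P
    exact Ideal.mk_ker
  have hle : P ≤ IsLocalRing.maximalIdeal O := IsLocalRing.le_maximalIdeal (Ideal.IsPrime.ne_top')
  let ψ : Spec (S.residueField s) ⟶ Spec D :=
    Spec.map (CommRingCat.ofHom (Ideal.Quotient.lift P (IsLocalRing.residue O) fun a ha =>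
      (IsLocalRing.residue_eq_zero_iff a).2 (hle ha)))
  refine of_factor @IsOpenImmersion u φ ψ _ ?_ hD
  show ψ ≫ j ≫ S.fromSpecStalk s = _
  rw [← Category.assoc, ← Spec.map_comp, ← CommRingCat.ofHom_comp, Ideal.Quotient.lift_comp_mk]
  rfl

end Groth.Agent.SemiNhd19
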