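import Groth.Agent.Lib.SemiNhd19.DvrApps
import Groth.Agent.Lib.GrpNeutral20.Smooth
import Groth.Agent.Lib.AbelGrp20.Main

/-!
# Pseudo-abelian varieties with a model without additive subgroups in the special fibre
-/

set_option autoImplicit false
set_option linter.style.haveILetI false
set_option linter.unusedSectionVars false
set_option backward.isDefEq.respectTransparency false
universe u

open CategoryTheory CategoryTheory.Limits MonoidalCategory CartesianMonoidalCategory MonObj GrpObj AlgebraicGeometry

noncomputable section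

namespace Groth.Agent.SemiNhd19

variable {R K : Type u} [CommRing R] [IsDomain R] [IsDiscreteValuationRing R] [Field K] [Algebra R K]
  [IsFractionRing R K]

/-- A separated smooth model with connected generic fibre has a quasi-compact open subgroup model. -/
theorem exists_qc_model (P' : Over (Spec (CommRingCat.of R))) [GrpObj P'] [Smooth P'.hom] [IsSeparated P'.hom]
    (P : Over (Spec (CommRingCat.of K))) [GrpObj P] [IsCommMonObj P] [ConnectedSpace ↥P.left]
    (e : (SGA7.genFib R K).obj P' ≅ P) [IsMonHom e.hom] :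
    ∃ (G : Over (Spec (CommRingCat.of R))) (_ : GrpObj G) (i : G ⟶ P'), IsMonHom i ∧ IsOpenImmersion i.left ∧
      Set.range i.left = SGA3x.neutralSet P' ∧ Smooth G.hom ∧ IsSeparated G.hom ∧ QuasiCompact G.hom ∧
      IsIso ((SGA7.genFib R K).map i) ∧ IsCommMonObj G := by
  obtain ⟨-, G, gG, i, hi, hio, hr, hs, hq⟩ := GrpNeutral20.exists_openSubgroup P' ⊤ (fun _ => trivial)
  haveI := hi; haveI := hio; haveI := hs; haveI := hq
  haveI hsep : IsSeparated G.hom := by rw [← Over.w i]; infer_instance
  let F := SGA7.genFib R K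
  let v : F.obj G ⟶ F.obj P' := F.map i
  haveI : IsOpenImmersion v.left := MorphismProperty.of_isPullback (isPullback_map _ i) hio
  haveI : LocallyOfFiniteType (F.obj G).hom := inferInstanceAs (LocallyOfFiniteType (pullback.snd G.hom _))
  haveI : IsIso e.inv.left := inferInstanceAs (IsIso ((Over.forget _).map e.inv))
  haveI : ConnectedSpace (F.obj P').left :=
    (Scheme.homeoOfIso (asIso e.inv.left)).surjective.connectedSpace (Scheme.homeoOfIso (asIso e.inv.left)).continuous
  have ho : IsOpen (Set.range v.left) := v.left.isOpenEmbedding.isOpen_range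
  have hc : IsClosed (Set.range v.left) := AbRigid.isClosed_range_of_isOpen v ho
  haveI : Surjective v.left := ⟨Set.range_eq_univ.1 (IsClopen.eq_univ ⟨hc, ho⟩
    ⟨_, η[F.obj G].left (IsLocalRing.closedPoint K), rfl⟩)⟩
  haveI : IsIso v.left := (isIso_iff_isOpenImmersion_and_surjective _).2 ⟨inferInstance, inferInstance⟩
  haveI : IsIso ((Over.forget _).map v) := ‹IsIso v.left›
  haveI hiso : IsIso v := isIso_of_reflects_iso v (Over.forget _)
  haveI : Mono (v ≫ e.hom) := inferInstance
  haveI : IsCommMonObj (F.obj G) := AbelGrp20.isCommMonObj_of_mono (v ≫ e.hom)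
  exact ⟨G, gG, i, hi, hio, hr, hs, hsep, hq, hiso, isCommMonObj_genFib (K := K) G⟩

/-- Open subgroups inherit vanishing unipotent rank. -/
theorem fibreUnipotentRankZero_open {S : Scheme.{u}} {G P' : Over S} [GrpObj G] [GrpObj P'] [LocallyOfFiniteType G.hom]
    (i : G ⟶ P') [IsMonHom i] [IsOpenImmersion i.left] {s : S} (h : SGA7.FibreUnipotentRankZero s P') :
    SGA7.FibreUnipotentRankZero s G := by
  intro j hj hjc
  haveI := hj; haveI := hjc
  let φ := Red.geomPt s
  let v : Red.bc φ G ⟶ Red.bc φ P' := (Over.pullback φ).map i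
  haveI : IsOpenImmersion v.left := MorphismProperty.of_isPullback (isPullback_map φ i) ‹IsOpenImmersion i.left›
  haveI : LocallyOfFiniteType (Red.bc φ G).hom := inferInstanceAs (LocallyOfFiniteType (pullback.snd G.hom φ))
  haveI : IsClosedImmersion v.left := IsClosedImmersion.of_isPreimmersion _
    (AbRigid.isClosed_range_of_isOpen v v.left.isOpenEmbedding.isOpen_range)
  exact h (j ≫ v) inferInstance (inferInstanceAs (IsClosedImmersion (j.left ≫ v.left)))

/-- In characteristic `p` the `p`-th power is flat when the special fibre has no additive subgroups. -/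
theorem flat_pow_char {p : ℕ} (hp : p.Prime) [CharP R p] (G : Over (Spec (CommRingCat.of R))) [GrpObj G]
    [IsCommMonObj G] [Smooth G.hom] [IsSeparated G.hom] [QuasiCompact G.hom]
    (hs : SGA7.FibreUnipotentRankZero (IsLocalRing.closedPoint R) G) : Flat (𝟙 G ^ p).left := by
  let S := Spec (CommRingCat.of R)
  let s : S := IsLocalRing.closedPoint R
  haveI := TorsLift22.isMonHom_zpow G p
  let f : G ⟶ G := 𝟙 G ^ p
  haveI : LocallyOfFiniteType (f.left ≫ G.hom) := by rw [Over.w]; infer_instance
  haveI : LocallyOfFiniteType f.left := locallyOfFiniteType_of_comp f.left G.hom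
  have h0 : FlatMor.fibreDimAt f.left (η[G].left s) ≤ ((0 : ℕ) : WithBot ℕ∞) := by
    let φ := Red.geomPt s
    let L := AlgebraicClosure (S.residueField s)
    let A := Red.bc φ G
    let a : A ⟶ A := (Over.pullback φ).map f
    haveI : LocallyOfFiniteType A.hom := inferInstanceAs (LocallyOfFiniteType (pullback.snd G.hom φ))
    haveI : QuasiCompact A.hom := inferInstanceAs (QuasiCompact (pullback.snd G.hom φ))
    haveI : IsSeparated A.hom := AbRigid.isSeparated_of_grpObj A
    haveI : LocallyOfFiniteType a.left := AlgGrpBasic19.lft_left a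
    let N := pullback a η[A]
    let ι₀ : N ⟶ A := pullback.fst a η[A]
    have hN : AlgGrp.IsKernel ι₀ a := by
      show IsPullback ι₀ (toUnit _) a η[A]
      rw [toUnit_unique (toUnit _) (pullback.snd a η[A])]
      exact IsPullback.of_hasPullback a η[A]
    obtain ⟨_, hι⟩ := GrpDim20.exists_grpObj_kernel a ι₀ hN
    haveI := hι
    haveI : Mono ι₀ := ⟨fun x y h => hN.hom_ext h (toUnit_unique _ _)⟩
    haveI := AbelGrp20.isCommMonObj_of_mono ι₀
    haveI : IsClosedImmersion η[A].left := isClosedImmersion_of_comp_eq_id A.hom η[A].left (Over.w η[A])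
    haveI : IsClosedImmersion ι₀.left :=
      MorphismProperty.of_isPullback (IsPullback.map (Over.forget _) hN).flip ‹IsClosedImmersion η[A].left›
    haveI : LocallyOfFiniteType N.hom := by rw [← Over.w ι₀]; infer_instance
    haveI : QuasiCompact N.hom := by rw [← Over.w ι₀]; infer_instance
    have ea : a = 𝟙 A ^ p :=
      (map_pow (Over.pullback φ).homMonoidHom (𝟙 G) p).trans (congrArg (· ^ p) ((Over.pullback φ).map_id G))
    obtain ⟨l, hl1, hl⟩ := Nat.exists_infinite_primes (p + 1)
    haveI : IsFinite N.hom := by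
      refine isFinite_of_noGa_noTor (fun j hj hjc => ?_) hl fun Y h hh => ?_
      · haveI := hj; haveI := hjc
        exact hs (j ≫ ι₀) inferInstance (inferInstanceAs (IsClosedImmersion (j.left ≫ ι₀.left)))
      · rw [← cancel_mono ι₀, MonObj.one_comp]
        have h1 : (h ≫ ι₀) ^ p = 1 := by
          have e1 : (h ≫ ι₀) ^ p = h ≫ ι₀ ≫ a := by
            rw [ea, MonObj.comp_pow, Category.comp_id, MonObj.comp_pow]
          rw [e1, hN.w, ← Category.assoc, toUnit_unique (h ≫ toUnit N) (toUnit Y), Hom.one_def]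
        have h2 : (h ≫ ι₀) ^ l = 1 := by rw [← Isogeny14.hom_pow_comp ι₀, hh, MonObj.one_comp]
        have h3 := pow_gcd_eq_one.2 ⟨h2, h1⟩
        rwa [(Nat.coprime_primes hl hp).2 (by omega), pow_one] at h3
    haveI : LocallyQuasiFinite a.left := GrpUnr20.locallyQuasiFinite_of_kernel a ι₀ hN inferInstance
    have h := fibreDimAt_unit f φ
    rw [show φ (IsLocalRing.closedPoint L) = s by
      show (Spec.map _ ≫ S.fromSpecResidueField s) _ = s
      rw [Scheme.Hom.comp_apply]
      exact Scheme.fromSpecResidueField_apply _ _] at h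
    rw [← h, FibDim14.fibreDimAt_eq_zero]
    rfl
  let O : S.Opens := ⟨η[G].left ⁻¹' {x | FlatMor.fibreDimAt f.left x ≤ ((0 : ℕ) : WithBot ℕ∞)},
    (FibDim14.isOpen_fibreDimAt_le f.left 0).preimage η[G].left.continuous⟩
  have hO : O = ⊤ := TopologicalSpace.Opens.ext (Set.eq_univ_of_forall fun x =>
    (IsLocalRing.specializes_closedPoint (show PrimeSpectrum R from x)).mem_open O.2 (show s ∈ O from h0))
  obtain ⟨hf, -⟩ := flat_lqf_restrict f (⊤ : S.Opens) fun y _ =>
    ⟨(show y ∈ O by rw [hO]; trivial), rfl⟩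
  haveI : IsIso (Scheme.Opens.ι (⊤ : S.Opens)) := inferInstanceAs (IsIso (Scheme.topIso S).hom)
  exact (MorphismProperty.arrow_mk_iso_iff @Flat (Arrow.isoMk (asIso (pullback.fst G.hom _))
    (asIso (pullback.fst G.hom _)) (isPullback_map (Scheme.Opens.ι (⊤ : S.Opens)) f).w :
      Arrow.mk _ ≅ Arrow.mk f.left)).1 hf

omit [IsDomain R] [IsDiscreteValuationRing R] [IsFractionRing R K] in
/-- Powers of surjective powers are surjective. -/
theorem surjective_pow_pow (P : Over (Spec (CommRingCat.of K))) [GrpObj P] (p : ℕ)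
    [Surjective (𝟙 P ^ p).left] : ∀ r : ℕ, Surjective (𝟙 P ^ p ^ r).left
  | 0 => by rw [pow_zero, pow_one]; exact inferInstanceAs (Surjective (𝟙 P.left))
  | r + 1 => by
    haveI := surjective_pow_pow P p r
    rw [pow_succ, pow_mul]
    rw [show (𝟙 P ^ p ^ r) ^ p = (𝟙 P ^ p ^ r) ≫ (𝟙 P ^ p) by rw [MonObj.comp_pow, Category.comp_id]]
    exact inferInstanceAs (Surjective ((𝟙 P ^ p ^ r).left ≫ (𝟙 P ^ p).left))

omit [IsDomain R] [IsDiscreteValuationRing R] [IsFractionRing R K] in
/-- A unipotent group with surjective `p`-th power in characteristic `p` is trivial. -/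
theorem subsingleton_of_surjective_pow {p : ℕ} (hp : p.Prime) [CharP K p] (V : Over (Spec (CommRingCat.of K)))
    [GrpObj V] [IsCommMonObj V] [Smooth V.hom] [ConnectedSpace ↥V.left] [IsAffine V.left]
    (hV : Red.HasNoSubtorus (AlgebraicClosure K)
      (Red.bc (Spec.map (CommRingCat.ofHom (algebraMap K (AlgebraicClosure K)))) V))
    [Surjective (𝟙 V ^ p).left] : Subsingleton V.left := by
  let L := AlgebraicClosure K
  let φ := Spec.map (CommRingCat.ofHom (algebraMap K L))
  haveI : CharP L p := charP_of_injective_algebraMap (algebraMap K L).injective p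
  haveI := Fact.mk hp
  let W := Red.bc φ V
  haveI : Smooth W.hom := BorelFix21.smooth_bc φ V
  haveI : IsAffine W.left := BorelFix21.isAffine_bc φ V
  haveI : ConnectedSpace W.left := BorelFix21.connectedSpace_bc φ V
  haveI : IsAffineHom W.hom := isAffineHom_of_isAffine _
  have h1 : 𝟙 W = 1 := by
    obtain ⟨A, _, _, hA, e, he⟩ := UniStr23.exists_good_model (p := p) W hV
    haveI := he
    obtain ⟨r, hr⟩ := hA.kill
    haveI : Surjective ((Over.pullback φ).map (𝟙 V ^ p)).left := BorelFix21.surjective_bc φ _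
    haveI : Surjective (𝟙 W ^ p).left := by
      rw [show 𝟙 W ^ p = (Over.pullback φ).map (𝟙 V ^ p) from
        ((map_pow (Over.pullback φ).homMonoidHom (𝟙 V) p).trans
          (congrArg (· ^ p) ((Over.pullback φ).map_id V))).symm]
      infer_instance
    haveI := surjective_pow_pow (K := L) W p r
    haveI : IsReduced W.left := OrbitTop19.isReduced_of_smooth W.hom
    haveI := TorsLift22.isMonHom_zpow W (p ^ r)
    haveI : QuasiCompact W.hom := inferInstance
    haveI : Flat (𝟙 W ^ p ^ r).left := AbRigid.flat_of_surjective_of_isReduced W W _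
    haveI : QuasiCompact (𝟙 W ^ p ^ r).left := Semiab15.qc_left _
    haveI := MTExt29.epi_of_cover (𝟙 W ^ p ^ r)
    refine Semiab15.id_eq_one_of_pow (n := p ^ r) ?_
    have hkill : 𝟙 (CoactBr.sp L A) ^ p ^ r = 1 := (UnipPow23.id_pow_eq_one_iff (p ^ r)).2 hr
    rw [← cancel_epi e.hom, MonObj.comp_pow, Category.comp_id, MonObj.comp_one,
      ← Category.id_comp e.hom, ← Isogeny14.hom_pow_comp e.hom, hkill, MonObj.one_comp]
  haveI := Semiab15.isIso_one_of_id h1
  haveI : IsIso η[W].left := inferInstanceAs (IsIso ((Over.forget _).map η[W]))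
  haveI : Surjective (pullback.fst V.hom φ) := MorphismProperty.pullback_fst V.hom φ
    ⟨fun x => ⟨IsLocalRing.closedPoint L, Subsingleton.elim (α := PrimeSpectrum K) _ _⟩⟩
  refine ⟨fun x y => ?_⟩
  obtain ⟨x', rfl⟩ := (pullback.fst V.hom φ).surjective x
  obtain ⟨y', rfl⟩ := (pullback.fst V.hom φ).surjective y
  obtain ⟨a, rfl⟩ := η[W].left.surjective x'
  obtain ⟨b, rfl⟩ := η[W].left.surjective y'
  rw [Subsingleton.elim (α := PrimeSpectrum L) a b]

/-- With proper generic fibre only the closed point has to be tested. -/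
theorem fibresUnipotentRankZero_of_closed (G : Over (Spec (CommRingCat.of R))) [GrpObj G]
    [IsProper ((SGA7.genFib R K).obj G).hom] (h : SGA7.FibreUnipotentRankZero (IsLocalRing.closedPoint R) G) :
    SGA7.FibresUnipotentRankZero G := by
  intro s
  by_cases hs : (show PrimeSpectrum R from s).asIdeal = ⊥
  · have : s = (⟨⊥, Ideal.isPrime_bot⟩ : PrimeSpectrum R) := PrimeSpectrum.ext hs
    subst this
    refine fibreUnipotentRankZero_of_isProper G _ ?_
    obtain ⟨ψ, hψ⟩ := exists_genFactor (R := R) (K := K)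
    let j := Spec.map (CommRingCat.ofHom (algebraMap R K))
    let s₀ : Spec (CommRingCat.of R) := (⟨⊥, Ideal.isPrime_bot⟩ : PrimeSpectrum R)
    let a : Spec (CommRingCat.of (AlgebraicClosure ((Spec (CommRingCat.of R)).residueField s₀))) ⟶
        Spec (CommRingCat.of K) :=
      Spec.map (CommRingCat.ofHom (algebraMap ((Spec (CommRingCat.of R)).residueField s₀)
        (AlgebraicClosure ((Spec (CommRingCat.of R)).residueField s₀)))) ≫ ψ
    have ha : a ≫ j = Red.geomPt s₀ := (Category.assoc _ _ _).trans (congrArg (_ ≫ ·) hψ)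
    let e := SpreadSub19.bcComp j a (c := Red.geomPt s₀) ha G
    haveI : IsIso e.inv.left := inferInstanceAs (IsIso ((Over.forget _).map e.inv))
    haveI : IsProper (Red.bc a (Red.bc j G)).hom :=
      MorphismProperty.pullback_snd _ a ‹IsProper ((SGA7.genFib R K).obj G).hom›
    show IsProper (Red.bc (Red.geomPt s₀) G).hom
    rw [← Over.w e.inv]
    infer_instance
  · have : s = IsLocalRing.closedPoint R := PrimeSpectrum.ext
      (IsLocalRing.eq_maximalIdeal (Ring.DimensionLEOne.maximalOfPrime hs (show PrimeSpectrum R from s).isPrime))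
    subst this
    exact h

/-- A pseudo-abelian variety with such a model is proper and has a quasi-compact semistable model. -/
theorem pseudoAbelian_main {p : ℕ} (hp : p.Prime) [CharP R p] (P : Over (Spec (CommRingCat.of K))) [GrpObj P]
    [IsCommMonObj P] [Smooth P.hom] [QuasiCompact P.hom] [ConnectedSpace ↥P.left]
    (E V : Over (Spec (CommRingCat.of K))) [GrpObj E] [GrpObj V] [IsProper E.hom]
    (jE : E ⟶ P) [IsMonHom jE] (πV : P ⟶ V) [IsMonHom πV] (hjE : IsClosedImmersion jE.left)
    (hker : AlgGrp.IsKernel jE πV) (hπV : Surjective πV.left)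
    [Smooth V.hom] [ConnectedSpace ↥V.left] [IsAffine V.left]
    (hV : Red.HasNoSubtorus (AlgebraicClosure K)
      (Red.bc (Spec.map (CommRingCat.ofHom (algebraMap K (AlgebraicClosure K)))) V))
    (P' : Over (Spec (CommRingCat.of R))) [GrpObj P'] [Smooth P'.hom] [IsSeparated P'.hom]
    (e : (SGA7.genFib R K).obj P' ≅ P) [IsMonHom e.hom]
    (h0 : SGA7.FibreUnipotentRankZero (IsLocalRing.closedPoint R) P') :
    IsProper P.hom ∧ ∃ (G : Over (Spec (CommRingCat.of R))) (_ : GrpObj G) (i : G ⟶ P') (w : (SGA7.genFib R K).obj G ≅ P),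
      IsMonHom w.hom ∧ IsMonHom i ∧ IsOpenImmersion i.left ∧ Set.range i.left = SGA3x.neutralSet P' ∧ Smooth G.hom ∧
      IsSeparated G.hom ∧ QuasiCompact G.hom ∧ IsCommMonObj G ∧ SGA7.FibresUnipotentRankZero G := by
  obtain ⟨G, _, i, hi, hio, hr, hs, hsep, hq, hiso, hG⟩ := exists_qc_model P' P e
  haveI := hi; haveI := hio; haveI := hs; haveI := hsep; haveI := hq; haveI := hiso; haveI := hG
  let F := SGA7.genFib R K
  let w : F.obj G ≅ P := asIso (F.map i) ≪≫ e
  haveI hw : IsMonHom w.hom := inferInstanceAs (IsMonHom (F.map i ≫ e.hom))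
  have hs0 := fibreUnipotentRankZero_open i h0
  haveI := flat_pow_char hp G hs0
  haveI : CharP K p := charP_of_injective_algebraMap (IsFractionRing.injective R K) p
  haveI : Flat (F.map (𝟙 G ^ p)).left :=
    MorphismProperty.of_isPullback (isPullback_map _ (𝟙 G ^ p)) ‹Flat (𝟙 G ^ p).left›
  have hFp : F.map (𝟙 G ^ p) = 𝟙 (F.obj G) ^ p :=
    (map_pow F.homMonoidHom (𝟙 G) p).trans (congrArg (· ^ p) (F.map_id G))
  haveI : IsIso w.inv.left := inferInstanceAs (IsIso ((Over.forget _).map w.inv))
  haveI : IsIso w.hom.left := inferInstanceAs (IsIso ((Over.forget _).map w.hom))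
  haveI := TorsLift22.isMonHom_zpow P p
  have hP : 𝟙 P ^ p = w.inv ≫ F.map (𝟙 G ^ p) ≫ w.hom := by
    rw [hFp, Isogeny14.hom_pow_comp w.hom, Category.id_comp, MonObj.comp_pow, w.inv_hom_id]
  haveI : Flat (𝟙 P ^ p).left := by
    rw [hP, Over.comp_left, Over.comp_left]; infer_instance
  haveI : Surjective (𝟙 P ^ p).left := AbRigid.surjective_of_flat P P _
  haveI : Surjective πV.left := hπV
  haveI : IsReduced V.left := OrbitTop19.isReduced_of_smooth V.hom
  haveI : Flat πV.left := AbRigid.flat_of_surjective_of_isReduced P V πV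
  haveI : LocallyOfFinitePresentation πV.left := by
    haveI : IsLocallyNoetherian V.left := LocallyOfFiniteType.isLocallyNoetherian V.hom
    haveI : LocallyOfFiniteType πV.left := AlgGrpBasic19.lft_left πV
    exact VarDim.locallyOfFinitePresentation_of_locallyNoetherian πV.left
  haveI := AbelGrp20.isCommMonObj_of_epi πV ⟨hπV, inferInstance, inferInstance⟩
  haveI : Surjective (𝟙 V ^ p).left := by
    haveI : Surjective (πV.left ≫ (𝟙 V ^ p).left) := by
      rw [← Over.comp_left, MonObj.comp_pow, Category.comp_id, ← Category.id_comp πV,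
        ← Isogeny14.hom_pow_comp πV, Over.comp_left]
      infer_instance
    exact Surjective.of_comp πV.left (𝟙 V ^ p).left
  haveI := subsingleton_of_surjective_pow hp V hV
  haveI := hjE
  have sq : IsPullback jE.left (toUnit E).left πV.left η[V].left := IsPullback.map (Over.forget _) hker
  haveI : Surjective η[V].left := ⟨fun y => ⟨IsLocalRing.closedPoint K, Subsingleton.elim _ _⟩⟩
  haveI : Surjective jE.left := MorphismProperty.of_isPullback sq.flip ‹Surjective η[V].left›
  haveI : IsReduced P.left := OrbitTop19.isReduced_of_smooth P.hom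
  haveI : IsIso jE.left := isIso_of_isClosedImmersion_of_surjective _
  haveI hPp : IsProper P.hom := by
    have e0 : P.hom = inv jE.left ≫ E.hom := by rw [← Over.w jE, IsIso.inv_hom_id_assoc]
    rw [e0]; infer_instance
  haveI : IsProper (F.obj G).hom := by rw [← Over.w w.hom]; infer_instance
  exact ⟨hPp, G, inferInstance, i, w, hw, hi, hio, hr, hs, hsep, hq, hG,
    fibresUnipotentRankZero_of_closed (K := K) G hs0⟩

end Groth.Agent.SemiNhd19
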